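import Cfsg.Agent.H1.Glauberman.Chief
import Cfsg.Agent.Thompson.StrongFusion

/-!
No counterexample in which `Z(J(S))` is the only one of its conjugates inside `S`.
-/

set_option autoImplicit false

namespace Cfsg.Agent.H1.Glauberman

open Subgroup Cfsg.Agent.Thompson
open H48 (cj limg IsSylowIn cj_le cj_mono cj_cj cj_one card_cj cj_inv_cj cj_cj_inv mem_cj conj_mem_cj
  cj_eq_of_mem_normalizer mem_normalizer_of_cj_eq cj_eq_self_of_le isPGroup_cj eq_of_le_of_card_le)

universe u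

variable {p : ℕ} {G : Type u} [Group G] {S : Sylow p G}

/-- conjugation by `g` on `Q` is induced from `N(W)` -/
def Ind (S : Sylow p G) (Q : Subgroup G) (g : G) : Prop :=
  ∃ n ∈ wn S, ∀ x ∈ Q, n * x * n⁻¹ = g * x * g⁻¹

theorem Ind.trans {Q : Subgroup G} {g k : G} (h1 : Ind S Q g) (h2 : Ind S (cj g Q) k) : Ind S Q (k * g) := by
  obtain ⟨n, hn, h1⟩ := h1
  obtain ⟨m, hm, h2⟩ := h2
  refine ⟨m * n, mul_mem hm hn, fun a ha => ?_⟩
  calc m * n * a * (m * n)⁻¹ = m * (n * a * n⁻¹) * m⁻¹ := by group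
    _ = k * (g * a * g⁻¹) * k⁻¹ := by rw [h1 a ha]; exact h2 _ (conj_mem_cj ha)
    _ = k * g * a * (k * g)⁻¹ := by group

theorem Ind.mono {Q Q' : Subgroup G} {g : G} (h : Ind S Q g) (hle : Q' ≤ Q) : Ind S Q' g := by
  obtain ⟨n, hn, h1⟩ := h
  exact ⟨n, hn, fun a ha => h1 a (hle ha)⟩

variable [Finite G] [Fact p.Prime]

/-- a largest failure, moved to an extremal subgroup -/
theorem exists_critical (hF : Fails (S : Subgroup G)) :
    ∃ Q : Subgroup G, Q ≤ (S : Subgroup G) ∧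
      IsSylowIn p ((S : Subgroup G) ⊓ normalizer (Q : Set G)) (normalizer (Q : Set G)) ∧
      (∃ g ∈ normalizer (Q : Set G), ¬ Ind S Q g) ∧
      ∀ T : Subgroup G, T ≤ (S : Subgroup G) → Nat.card Q < Nat.card T → ∀ g : G,
        cj g T ≤ (S : Subgroup G) → Ind S T g := by
  classical
  obtain ⟨A, g0, hA, hAg, hno⟩ := hF
  obtain ⟨Q, ⟨hQ, g, hg, hbad⟩, hmax⟩ := Set.exists_max_image
    {Q : Subgroup G | Q ≤ (S : Subgroup G) ∧ ∃ g : G, cj g Q ≤ (S : Subgroup G) ∧ ¬ Ind S Q g}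
    (fun Q => Nat.card Q) (Set.toFinite _)
    ⟨closure A, (closure_le _).mpr hA, g0, by
      rw [cj, MonoidHom.map_closure]; exact (closure_le _).mpr hAg,
      fun ⟨n, hn, hna⟩ => hno ⟨n, hn, fun a ha => hna a (subset_closure ha)⟩⟩
  have ihT : ∀ T : Subgroup G, T ≤ (S : Subgroup G) → Nat.card Q < Nat.card T → ∀ k : G,
      cj k T ≤ (S : Subgroup G) → Ind S T k := fun T hT hlt k hk => by
    by_contra h
    exact absurd (hmax T ⟨hT, k, hk, h⟩) (not_le.mpr hlt)
  have hQS : Q ≠ (S : Subgroup G) := by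
    rintro rfl
    refine hbad ⟨g, ?_, fun _ _ => rfl⟩
    exact normalizer_jay_le_normalizer_zjay 0 _
      (normalizer_le_normalizer_jay 0 _ (mem_normalizer_of_cj_eq (cj_eq_self_of_le hg)))
  obtain ⟨e, he1, -, he3⟩ := Fusion.exists_extremal S hQ
  set E := cj e Q
  have hSp := S.isPGroup'
  have hE : IsSylowIn p ((S : Subgroup G) ⊓ normalizer (E : Set G)) (normalizer (E : Set G)) :=
    ⟨inf_le_right, hSp.to_le inf_le_left, he3⟩
  have move : ∀ (T : Subgroup G) (k : G), cj k T = E → ∃ h : G, cj h T = E ∧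
      cj h ((S : Subgroup G) ⊓ normalizer (T : Set G)) ≤ (S : Subgroup G) ⊓ normalizer (E : Set G) := by
    intro T k hk
    obtain ⟨m, hm, hm'⟩ := hE.exists_cj_le (isPGroup_cj (g := k) (hSp.to_le (inf_le_left :
      (S : Subgroup G) ⊓ normalizer (T : Set G) ≤ S)))
      (by rw [← hk, ← H48.cj_normalizer]; exact cj_mono inf_le_right)
    exact ⟨m * k, by rw [← cj_cj, hk, cj_eq_of_mem_normalizer hm], by rwa [← cj_cj]⟩
  obtain ⟨h₁, e₁, l₁⟩ := move Q e rfl
  obtain ⟨h₂, e₂, l₂⟩ := move (cj g Q) (e * g⁻¹) (by rw [cj_cj, inv_mul_cancel_right])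
  have r₁ : Ind S Q h₁ :=
    (ihT _ inf_le_left (H48.card_lt_card_inf_normalizer hSp hQ hQS) h₁ (l₁.trans inf_le_left)).mono
      (le_inf hQ le_normalizer)
  have hgne : cj g Q ≠ (S : Subgroup G) := fun he =>
    hQS (eq_of_le_of_card_le hQ (by rw [← he, card_cj]))
  have r₂ : Ind S E h₂⁻¹ := by
    refine (ihT (cj h₂ ((S : Subgroup G) ⊓ normalizer ((cj g Q : Subgroup G) : Set G)))
      (l₂.trans inf_le_left) ?_ h₂⁻¹ (by rw [cj_inv_cj]; exact inf_le_left)).mono ?_
    · rw [card_cj, ← card_cj g Q]; exact H48.card_lt_card_inf_normalizer hSp hg hgne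
    · rw [← e₂]; exact cj_mono (le_inf hg le_normalizer)
  have hcard : Nat.card E = Nat.card Q := card_cj e Q
  refine ⟨E, he1, hE, ⟨h₂ * g * h₁⁻¹, ?_, fun r₃ => hbad ?_⟩, fun T h1 h2 => ihT T h1 (hcard ▸ h2)⟩
  · refine mem_normalizer_of_cj_eq ?_
    nth_rw 1 [← e₁]
    rw [cj_cj, inv_mul_cancel_right, ← cj_cj, e₂]
  · have hy : cj (h₂ * g * h₁⁻¹) E = E := by
      nth_rw 1 [← e₁]
      rw [cj_cj, inv_mul_cancel_right, ← cj_cj, e₂]
    have h123 := r₁.trans (k := h₂⁻¹ * (h₂ * g * h₁⁻¹)) (by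
      rw [e₁]
      exact r₃.trans (by rw [hy]; exact r₂))
    simpa [mul_assoc] using h123

/-- elements of `N(Q)` whose action on `Q` is induced from `N(W)` -/
def indGroup (S : Sylow p G) (Q : Subgroup G) : Subgroup G where
  carrier := {m | m ∈ normalizer (Q : Set G) ∧ Ind S Q m}
  one_mem' := ⟨one_mem _, 1, one_mem _, fun _ _ => rfl⟩
  mul_mem' := fun {m m'} hm hm' => ⟨mul_mem hm.1 hm'.1, hm'.2.trans (by
    rw [cj_eq_of_mem_normalizer hm'.1]; exact hm.2)⟩
  inv_mem' := fun {m} ⟨hm, n, hn, h⟩ => ⟨inv_mem hm, n⁻¹, inv_mem hn, fun x hx => by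
    have hx' : m⁻¹ * x * m ∈ Q := by
      have := (mem_normalizer_iff.mp (inv_mem hm) x).mp hx
      simpa using this
    have e1 : n * (m⁻¹ * x * m) * n⁻¹ = x := by rw [h _ hx']; group
    calc n⁻¹ * x * n⁻¹⁻¹ = n⁻¹ * (n * (m⁻¹ * x * m) * n⁻¹) * n := by rw [e1, inv_inv]
      _ = m⁻¹ * x * m⁻¹⁻¹ := by group⟩

/-- **case one is impossible** -/
theorem false_of_unique (hc : Ctx p S)
    (huni : ∀ g : G, cj g (wz S) ≤ (S : Subgroup G) → cj g (wz S) = wz S)
    (hF : Fails (S : Subgroup G)) : False := by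
  classical
  obtain ⟨Q, hQS, hsyl, ⟨g0, hg0, hg0bad⟩, hbig⟩ := exists_critical hF
  have hQp : IsPGroup p Q := S.isPGroup'.to_le hQS
  set M := normalizer (Q : Set G) with hM
  set M1 := indGroup S Q with hM1
  have hCM1 : centralizer (Q : Set G) ≤ M1 := fun c hc =>
    ⟨centralizer_le_normalizer _ hc, 1, one_mem _, fun x hx => by
      rw [one_mul, inv_one, mul_one, ← mem_centralizer_iff.mp hc x hx, mul_inv_cancel_right]⟩
  have hHM1 : wn S ⊓ M ≤ M1 := fun x hx => ⟨hx.2, x, hx.1, fun _ _ => rfl⟩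
  have hQM1 : Q ≤ M1 := fun x hx => hHM1 ⟨sylow_le_wn (hQS hx), le_normalizer hx⟩
  have hfr : ∀ K : Subgroup G, K ≤ M1 → M ≤ normalizer (K : Set G) → Q ≤ K → (S : Subgroup G) ⊓ K = Q := by
    intro K hK hMK hQK
    by_contra hne
    set T := (S : Subgroup G) ⊓ K with hT
    have hlt : Nat.card Q < Nat.card T := lt_of_le_of_ne (Subgroup.card_le_of_le (le_inf hQS hQK))
      fun he => hne (eq_of_le_of_card_le (le_inf hQS hQK) he.ge).symm
    have hKM : K ≤ M := hK.trans fun x hx => hx.1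
    have hTs : IsSylowIn p T K := by
      obtain ⟨T', hT', hle⟩ := H48.exists_isSylowIn_ge (S.isPGroup'.to_le (inf_le_left : T ≤ _)) inf_le_right
      obtain ⟨x, hx, hxT⟩ := hsyl.exists_cj_le hT'.isPGroup (hT'.le.trans hKM)
      have h : cj x T' ≤ T := le_inf (hxT.trans inf_le_left)
        ((cj_mono hT'.le).trans (cj_eq_of_mem_normalizer (hMK hx)).le)
      have he : T = T' := eq_of_le_of_card_le hle ((card_cj x T').symm.trans_le (Subgroup.card_le_of_le h))
      rwa [he]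
    refine hg0bad ?_
    have hT' := hTs.cj g0
    rw [cj_eq_of_mem_normalizer (hMK hg0)] at hT'
    obtain ⟨k, hk, he⟩ := hT'.exists_conj hTs
    rw [cj_cj] at he
    have h1 : k * g0 ∈ M1 := ⟨mul_mem (hKM hk) hg0,
      (hbig T inf_le_left hlt _ (he.le.trans inf_le_left)).mono (le_inf hQS hQK)⟩
    have h2 : g0 ∈ M1 := by simpa using mul_mem (inv_mem (hK hk)) h1
    exact h2.2
  have hCS : (S : Subgroup G) ⊓ centralizer (Q : Set G) ≤ Q := by
    have h := hfr (Q ⊔ centralizer (Q : Set G)) (sup_le hQM1 hCM1) (fun m hm => mem_normalizer_of_cj_eq (by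
      rw [cj, Subgroup.map_sup, show Q.map _ = Q from cj_eq_of_mem_normalizer hm,
        show (centralizer (Q : Set G)).map _ = centralizer (Q : Set G) from
          cj_eq_of_mem_normalizer (normalizer_le_normalizer_centralizer' Q hm)])) le_sup_left
    exact (inf_le_inf_left _ le_sup_right).trans h.le
  -- `a`
  obtain ⟨a, haW, haM, haQ⟩ : ∃ a ∈ wz S, a ∈ M ∧ a ∉ Q := by
    have hWQ : ¬ wz S ≤ Q := fun hle => hg0bad ⟨g0, mem_normalizer_of_cj_eq
      (huni g0 (((cj_mono hle).trans (cj_eq_of_mem_normalizer hg0).le).trans hQS)), fun _ _ => rfl⟩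
    set X := wz S ⊔ Q with hX
    have hXS : X ≤ (S : Subgroup G) := sup_le zjay_le hQS
    have hne : Q ≠ X := fun h => hWQ (h ▸ le_sup_left)
    have hlt := H48.card_lt_card_inf_normalizer (S.isPGroup'.to_le hXS) (le_sup_right : Q ≤ X) hne
    obtain ⟨x, hx, hxQ⟩ : ∃ x ∈ X ⊓ M, x ∉ Q := by
      by_contra hno
      push Not at hno
      exact absurd (Subgroup.card_le_of_le hno) (not_le.mpr hlt)
    have hx' : x ∈ ((wz S ⊔ Q : Subgroup G) : Set G) := hx.1
    rw [coe_mul_of_right_le_normalizer_left (wz S) Q (hQS.trans sylow_le_wn)] at hx'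
    obtain ⟨w, hw, q, hq, rfl⟩ := hx'
    refine ⟨w, hw, ?_, fun h => hxQ (mul_mem h hq)⟩
    simpa using M.mul_mem hx.2 (M.inv_mem (le_normalizer hq))
  have haS : a ∈ (S : Subgroup G) := zjay_le haW
  -- inside `M`
  set Q' := Q.subgroupOf M with hQ'
  have hQ'n : Q'.Normal := normal_subgroupOf_of_le_normalizer le_rfl
  have hQ'p : IsPGroup p Q' := hQp.comap_subtype
  let a' : M := ⟨a, haM⟩
  let SM : Sylow p M := hsyl.toSylow
  have hSM : ∀ {x : M}, x ∈ (SM : Subgroup M) → (x : G) ∈ (S : Subgroup G) := fun {x} hx => by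
    rw [H48.IsSylowIn.coe_toSylow] at hx
    exact hx.1
  have hcent : ∀ {x : M}, x ∈ centralizer (Q' : Set M) → (x : G) ∈ centralizer (Q : Set G) := fun {x} hx =>
    mem_centralizer_iff.mpr fun q hq =>
      congrArg Subtype.val (mem_centralizer_iff.mp hx ⟨q, le_normalizer hq⟩ hq)
  have hna : a' ∉ stabPre p Q' := by
    intro h
    have hle : stabPre p Q' ≤ M1.subgroupOf M := (stabPre_le SM Q').trans (sup_le
      (fun x hx => hCM1 (hcent hx)) (fun x hx => hHM1 ⟨sylow_le_wn (hSM hx), x.2⟩))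
    have hn : M ≤ normalizer ((stabPre p Q').map M.subtype ⊔ Q : Subgroup G) := fun m hm => by
      refine mem_normalizer_of_cj_eq ?_
      have h1 : m ∈ normalizer ((stabPre p Q').map M.subtype : Set G) :=
        (stabPre p Q').le_normalizer_map M.subtype (mem_map_of_mem (f := M.subtype) (x := ⟨m, hm⟩)
          ((normalizer_eq_top (H := stabPre p Q')).ge (mem_top _)))
      rw [cj, Subgroup.map_sup, show Q.map _ = Q from cj_eq_of_mem_normalizer hm,
        show ((stabPre p Q').map M.subtype).map _ = (stabPre p Q').map M.subtype from cj_eq_of_mem_normalizer h1]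
    have := hfr _ (sup_le ((map_mono hle).trans ((subgroupOf_map_subtype M1 M).le.trans inf_le_left)) hQM1) hn le_sup_right
    exact haQ (this.le ⟨haS, mem_sup_left ⟨a', h, rfl⟩⟩)
  obtain ⟨B, Nn, hBn, hNnn, hBQ, hB, g, hg⟩ := exists_chief_pair hQ'p hna
  have hBS : ∀ {x : M}, x ∈ B → (x : G) ∈ (S : Subgroup G) := fun {x} hx => hQS (hBQ hx)
  have hcomm : ∀ {x : M}, x ∈ B → a * x * a⁻¹ * (x : G)⁻¹ ∈ wz S := fun {x} hx => by
    rw [show a * x * a⁻¹ * (x : G)⁻¹ = a * ((x : G) * a⁻¹ * (x : G)⁻¹) by group]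
    exact mul_mem haW ((mem_normalizer_iff.mp (sylow_le_wn (hBS hx)) _).mp (inv_mem haW))
  have hqa : IsQuad Nn B a' := fun x hx => by
    have e : a' * (a' * x * a'⁻¹ * x⁻¹) * a'⁻¹ * (a' * x * a'⁻¹ * x⁻¹)⁻¹ = 1 := Subtype.ext (by
      show a * (a * x * a⁻¹ * (x : G)⁻¹) * a⁻¹ * (a * x * a⁻¹ * (x : G)⁻¹)⁻¹ = 1
      rw [zjay_comm haW (hcomm hx), mul_inv_cancel_right, mul_inv_cancel])
    rw [e]; exact one_mem _
  obtain ⟨x, hx, N, e, hpl, htor⟩ := (exists_planes hc.odd hB hqa (hqa.conj g)).2 hg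
  set u := a' * x * a'⁻¹ * x⁻¹ with hu
  obtain ⟨n, hn⟩ := exists_isPrimitive p
  have hnd := hn.not_dvd hc.odd
  have hnn : n * n ^ (p - 2) ≡ 1 [MOD p] := by
    rw [← pow_succ', show p - 2 + 1 = p - 1 by have := (Fact.out : p.Prime).two_le; omega]
    have h := ZMod.pow_card_sub_one_eq_one (p := p) (a := (n : ZMod p)) (by rwa [Ne, ZMod.natCast_eq_zero_iff])
    exact (ZMod.natCast_eq_natCast_iff _ _ p).mp (by simpa using h)
  obtain ⟨h0, -, hh0⟩ := htor n (n ^ (p - 2)) hnn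
  set Q0 := Q ⊔ zpowers a with hQ0
  have hQ0S : Q0 ≤ (S : Subgroup G) := sup_le hQS (zpowers_le.mpr haS)
  have hlt0 : Nat.card Q < Nat.card Q0 := lt_of_le_of_ne (Subgroup.card_le_of_le le_sup_left)
    fun he => haQ ((eq_of_le_of_card_le (le_sup_left : Q ≤ Q0) he.ge).ge (mem_sup_right (mem_zpowers a)))
  obtain ⟨ka, hka⟩ := exists_pow_eq_one_of_mem S.isPGroup' haS
  obtain ⟨k, hk1, hk⟩ := exists_torus_mem hpl (M1.subgroupOf M) Q' hQ'p (fun v hv => hQM1 hv)
    ⟨ka, Subtype.ext hka⟩ (fun T hT hQT haT m hm => by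
      have hTM : T.map M.subtype ≤ M := map_subtype_le T
      obtain ⟨c, hc', hcT⟩ := hsyl.exists_cj_le (hT.map M.subtype) hTM
      have hQ0T : Q0 ≤ T.map M.subtype := sup_le (fun q hq => ⟨⟨q, le_normalizer hq⟩, hQT hq, rfl⟩)
        (zpowers_le.mpr ⟨a', haT, rfl⟩)
      have hkey : ∀ c ∈ M, cj c (T.map M.subtype) ≤ (S : Subgroup G) → c ∈ M1 := fun c hc1 hc2 =>
        ⟨hc1, (hbig Q0 hQ0S hlt0 c ((cj_mono hQ0T).trans hc2)).mono le_sup_left⟩
      have hm' : (m : G) ∈ normalizer (T.map M.subtype : Set G) :=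
        T.le_normalizer_map M.subtype (mem_map_of_mem _ hm)
      have h1 := hkey c hc' (hcT.trans inf_le_left)
      have h2 := hkey (c * m) (mul_mem hc' m.2) (by
        rw [← cj_cj, cj_eq_of_mem_normalizer hm']; exact hcT.trans inf_le_left)
      show (m : G) ∈ M1
      simpa using mul_mem (inv_mem h1) h2) hh0
  -- the section
  set H' := (wn S).subgroupOf M with hH'
  set O := pPrimeCore p M with hO
  have hOn : O.Normal := by rw [hO]; infer_instance
  set Cq := centralizer (Q' : Set M) with hCq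
  have hCqO : Cq ≤ O ⊔ H' := by
    obtain ⟨T', hT'⟩ := exists_sylow_inf_normal SM Cq
    have hTQ : ∀ t : Cq, t ∈ (T' : Subgroup Cq) → (t : M) ∈ Q' := fun t ht => by
      have h := hT'.le ⟨t, ht, rfl⟩
      exact hCS ⟨hSM h.1, hcent h.2⟩
    have hnc : normalizer ((T' : Subgroup Cq) : Set Cq) ≤ centralizer ((T' : Subgroup Cq) : Set Cq) :=
      fun z _ => mem_centralizer_iff.mpr fun t ht => Subtype.ext (mem_centralizer_iff.mp z.2 _ (hTQ t ht))
    obtain ⟨P, Nc, hNn, hNP⟩ := Fusion.hasNormalPComplement_of_normalizer_le_centralizer T' hnc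
    have hN1 : (Nat.card Nc).Coprime p := ((Fact.out : p.Prime).coprime_iff_not_dvd.mpr
      (Fusion.not_dvd_card_of_isComplement' P hNP)).symm
    have hNO : Nc.map Cq.subtype ≤ O :=
      (map_mono (Cores.le_pPrimeCore hN1)).trans (Cores.map_pPrimeCore_le_of_normal Cq)
    have hPH : (P : Subgroup Cq).map Cq.subtype ≤ H' := by
      obtain ⟨z, hz⟩ := MulAction.exists_smul_eq Cq T' P
      rintro _ ⟨t, ht, rfl⟩
      rw [SetLike.mem_coe, ← hz, Sylow.coe_subgroup_smul, Subgroup.mem_pointwise_smul_iff_inv_smul_mem] at ht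
      have h1 : (z : M)⁻¹ * t * z ∈ Q' := by
        have := hTQ _ ht
        simpa [mul_assoc] using this
      have h2 : (t : M) ∈ Q' := by
        have := hQ'n.conj_mem _ h1 z
        simpa [mul_assoc] using this
      exact sylow_le_wn (hQS h2)
    intro c hc'
    have hc'' := (hNP.sup_eq_top).ge (mem_top (⟨c, hc'⟩ : Cq))
    have := mem_map_of_mem Cq.subtype hc''
    rw [Subgroup.map_sup] at this
    exact sup_le (hNO.trans le_sup_left) (hPH.trans le_sup_right) this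
  set M1' := M1.subgroupOf M with hM1'
  have hM1O : M1' ≤ O ⊔ H' := by
    rintro m ⟨-, h, hh, hagree⟩
    have hhM : h ∈ M := mem_normalizer_of_cj_eq (cj_eq_self_of_le (cj_le.mpr fun q hq => by
      rw [hagree q hq]; exact (mem_normalizer_iff.mp m.2 q).mp hq))
    have hC : (⟨h, hhM⟩ : M)⁻¹ * m ∈ Cq := mem_centralizer_iff.mpr fun q hq => Subtype.ext (by
      show (q : G) * (h⁻¹ * (m : G)) = h⁻¹ * (m : G) * q
      have := hagree (q : G) hq
      calc (q : G) * (h⁻¹ * (m : G)) = h⁻¹ * (h * q * h⁻¹) * m := by group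
        _ = _ := by rw [this, Subgroup.coe_subtype]; group)
    have := mul_mem (mem_sup_right (show (⟨h, hhM⟩ : M) ∈ H' from hh) : _ ∈ O ⊔ H') (hCqO hC)
    simpa using this
  have hsec1 : HasSection (fOver (ZMod p)) M1' :=
    hasSection_of_plane hc.odd hpl _ (fun v hv => hQM1 (hBQ hv)) (hHM1 ⟨sylow_le_wn haS, haM⟩) hk1 hn hnn hk
  set π := QuotientGroup.mk' O with hπ
  have hO1 : (Nat.card (O.subgroupOf M1')).Coprime p :=
    Nat.Coprime.coprime_dvd_left (card_comap_dvd_of_injective O M1'.subtype M1'.subtype_injective)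
      (hO ▸ Cores.coprime_card_pPrimeCore)
  let φ : M1' →* H'.map π := (π.comp M1'.subtype).codRestrict (H'.map π) fun m => by
    have h := mem_map_of_mem π (hM1O m.2)
    rwa [Subgroup.map_sup, hπ, QuotientGroup.map_mk'_self, bot_sup_eq] at h
  have hker : ∀ m, φ m = 1 ↔ m ∈ O.subgroupOf M1' := fun m => by
    rw [Subtype.ext_iff]
    exact QuotientGroup.eq_one_iff (m : M)
  let φ' : M1' ⧸ O.subgroupOf M1' →* H'.map π := QuotientGroup.lift _ φ fun m hm => (hker m).mpr hm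
  have hφ' : Function.Injective φ' := (injective_iff_map_eq_one _).mpr fun q hq => by
    obtain ⟨m, rfl⟩ := QuotientGroup.mk'_surjective _ q
    exact (QuotientGroup.eq_one_iff m).mpr ((hker m).mp hq)
  have hsec2 : HasSection (fOver (ZMod p)) H' :=
    ((hasSection_quotient_coprime (O.subgroupOf M1') hO1 hsec1).of_injective hφ').of_surjective
      (π.subgroupMap_surjective H')
  have hsec : HasSection (fOver (ZMod p)) (wn S) :=
    HasSection.of_injective (f := MonoidHom.mk' (fun x : H' => (⟨((x : M) : G), x.2⟩ : wn S)) fun x y => rfl)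
      (fun x y hxy => Subtype.ext (Subtype.ext (congrArg (fun z : wn S => (z : G)) hxy))) hsec2
  -- the eigen element
  obtain ⟨-, h, hh, hagree⟩ := hk1
  have hnorm : ∀ X : Subgroup M, X ≤ Q' → k ∈ normalizer (X : Set M) →
      h ∈ normalizer (X.map M.subtype : Set G) := fun X hX hkX =>
    mem_normalizer_of_cj_eq (cj_eq_self_of_le (cj_le.mpr (by
      rintro _ ⟨v, hv, rfl⟩
      exact ⟨k * v * k⁻¹, (mem_normalizer_iff.mp hkX v).mp hv, (hagree (v : G) (hX hv)).symm⟩)))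
  have hkB : h ∈ normalizer ((wz S ⊓ B.map M.subtype : Subgroup G) : Set G) :=
    mem_normalizer_inf hh (hnorm B hBQ ((normalizer_eq_top (H := B)).ge (mem_top k)))
  have huW : (u : G) ∈ wz S ⊓ B.map M.subtype :=
    ⟨hcomm hx, u, mul_mem (hBn.conj_mem x hx a') (inv_mem hx), rfl⟩
  have hkN : h ∈ normalizer (N.map M.subtype : Set G) := hnorm N (hpl.le.trans hBQ) hk.norm
  obtain ⟨c0, hc0, hord, k0, hk0, he⟩ := exists_eigen (p := p) (Y := wz S ⊓ B.map M.subtype)
    (Y' := (wz S ⊓ B.map M.subtype) ⊓ N.map M.subtype)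
    (isMulCommutative_iff_forall.mpr fun x hx y hy => zjay_comm hx.1 hy.1)
    (S.isPGroup'.to_le (inf_le_left.trans zjay_le)) inf_le_left hkB (mem_normalizer_inf hkB hkN)
    (u := (u : G)) huW (fun hin => hpl.u_not (by
      obtain ⟨v, hv, hvu⟩ := hin.2
      rwa [show v = u from Subtype.ext hvu] at hv))
    ⟨pow_mem huW _, u ^ p, hpl.ge (hB.pow u hpl.u_mem), map_pow M.subtype u p⟩ hnd
    ⟨(wz S ⊓ B.map M.subtype).mul_mem ((mem_normalizer_iff.mp hkB _).mp huW) (inv_mem (pow_mem huW _)),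
      k * u * k⁻¹ * (u ^ n)⁻¹, hk.act_u, by
        rw [hagree (u : G) (hBQ hpl.u_mem)]; rfl⟩
  exact hc.no ⟨hsec, c0, hc0.1, hord, k0, zpowers_le.mpr hh hk0, n, hn, he⟩

end Cfsg.Agent.H1.Glauberman
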