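import Cfsg.Agent.H1.Glauberman.Step
import Cfsg.Agent.Thompson.Replacement

/-!
No counterexample has a second conjugate of `Z(J(S))` inside `S`.
-/

set_option autoImplicit false

namespace Cfsg.Agent.H1.Glauberman

open Subgroup Cfsg.Agent.Thompson
open H48 (cj limg IsSylowIn cj_le cj_mono cj_cj cj_one card_cj cj_inv_cj cj_cj_inv mem_cj conj_mem_cj
  cj_eq_of_mem_normalizer mem_normalizer_of_cj_eq cj_eq_self_of_le isPGroup_cj eq_of_le_of_card_le)
open scoped commutatorElement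

universe u

variable {p : ℕ} {G : Type u} [Group G] {S : Sylow p G} {R : Subgroup G}

/-- the group generated by a set of conjugates of `W` -/
abbrev wspan (S : Sylow p G) (s : Set G) : Subgroup G := closure (⋃ g ∈ s, (cj g (wz S) : Set G))

theorem cj_le_wspan {s : Set G} {g : G} (hg : g ∈ s) : cj g (wz S) ≤ wspan S s := fun _ hx =>
  subset_closure (Set.mem_biUnion hg hx)

theorem wspan_le {s : Set G} {B : Subgroup G} (h : ∀ g ∈ s, cj g (wz S) ≤ B) : wspan S s ≤ B :=
  (closure_le _).mpr (Set.iUnion₂_subset h)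

theorem cj_wspan (n : G) (s : Set G) : cj n (wspan S s) = wspan S ((fun g => n * g) '' s) := by
  rw [wspan, wspan, cj, MonoidHom.map_closure, Set.image_iUnion₂, Set.biUnion_image]
  simp only [← cj_cj, Subgroup.coe_map]

variable [Finite G] [Fact p.Prime]

/-- points of `C` fixed by `quadGen` -/
def fixedPts (S : Sylow p G) (R C : Subgroup G) : Set G :=
  {g | cj g (wz S) ≤ C ∧ quadGen S R C ≤ normalizer (cj g (wz S) : Set G)}

theorem one_mem_fixedPts (hR : Base S R) {C : Subgroup G} (hC : RMem S R C) : (1 : G) ∈ fixedPts S R C :=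
  ⟨by rw [cj_one]; exact hC.1.le, quadGen_le_normalizer_one hR⟩

theorem mul_mem_fixedPts {C : Subgroup G} {l g : G} (hl : l ∈ mover S R C) (hg : g ∈ fixedPts S R C) :
    l * g ∈ fixedPts S R C :=
  ⟨by rw [← cj_cj]; exact (cj_mono hg.1).trans (cj_eq_of_mem_normalizer hl.1).le,
    quadGen_le_normalizer_conj hl hg.2⟩

/-- a set of fixed points invariant under the movers gives a member -/
theorem rmem_wspan (hc : Ctx p S) (hR : Base S R) {C : Subgroup G} (hC : RMem S R C) {s : Set G}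
    (hs : s ⊆ fixedPts S R C) (hone : (1 : G) ∈ s)
    (hinv : ∀ l ∈ mover S R C, ∀ g ∈ s, l * g ∈ s) : RMem S R (wspan S s) := by
  have hn : mover S R C ≤ normalizer (wspan S s : Set G) := fun l hl =>
    mem_normalizer_closure_conj fun g hg => ⟨l * g, hinv l hl g hg, rfl⟩
  exact ⟨member_of_closure hc hC.1.isPGroup (fun g hg => (hs hg).1) hone
    (fun g hg g' hg' => (hs hg).1.trans (hC.1.le_normalizer_conj (hs hg').1))
    fun h => mover_not_le hc hR hC (hn.trans h), (le_mover hC).trans hn⟩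

/-- terminal members -/
def Terminal (S : Sylow p G) (R C : Subgroup G) : Prop :=
  RMem S R C ∧ C ≤ wspan S (fixedPts S R C)

/-- descent to a terminal member -/
theorem exists_terminal (hc : Ctx p S) (hR : Base S R) (Ps : Set G) :
    ∀ C : Subgroup G, RMem S R C → (∀ g ∈ Ps, cj g (wz S) ≤ C) →
      (∀ C' : Subgroup G, RMem S R C' → (∀ g ∈ Ps, cj g (wz S) ≤ C') →
        ∀ g ∈ Ps, quadGen S R C' ≤ normalizer (cj g (wz S) : Set G)) →
      ∃ C', Terminal S R C' ∧ ∀ g ∈ Ps, cj g (wz S) ≤ C' := by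
  intro C
  induction hn : Nat.card C using Nat.strong_induction_on generalizing C with
  | _ m ih =>
  intro hC hP hfix
  set s : Set G := {x | ∃ l ∈ mover S R C, ∃ g ∈ insert (1 : G) Ps, x = l * g} with hs
  have hsF : s ⊆ fixedPts S R C := by
    rintro _ ⟨l, hl, g, hg, rfl⟩
    refine mul_mem_fixedPts hl ?_
    rcases hg with rfl | hg
    · exact one_mem_fixedPts hR hC
    · exact ⟨hP g hg, hfix C hC hP g hg⟩
  have hin : ∀ g ∈ insert (1 : G) Ps, g ∈ s := fun g hg => ⟨1, one_mem _, g, hg, (one_mul g).symm⟩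
  have hinv : ∀ l ∈ mover S R C, ∀ g ∈ s, l * g ∈ s := by
    rintro l hl _ ⟨k, hk, g, hg, rfl⟩
    exact ⟨l * k, mul_mem hl hk, g, hg, (mul_assoc _ _ _).symm⟩
  have hle : wspan S s ≤ C := wspan_le fun g hg => (hsF hg).1
  have hC' : RMem S R (wspan S s) := rmem_wspan hc hR hC hsF (hin 1 (Set.mem_insert _ _)) hinv
  have hP' : ∀ g ∈ Ps, cj g (wz S) ≤ wspan S s := fun g hg => cj_le_wspan (hin g (Set.mem_insert_of_mem _ hg))
  by_cases he : wspan S s = C
  · exact ⟨C, ⟨hC, he.ge.trans (wspan_le fun g hg => cj_le_wspan (hsF hg))⟩, hP⟩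
  exact ih _ (hn ▸ lt_of_le_of_ne (Subgroup.card_le_of_le hle) fun h => he (eq_of_le_of_card_le hle h.ge))
    (wspan S s) rfl hC' hP' hfix

/-- the case `R = S` -/
theorem full_false (hc : Ctx p S) (hR : Base S R) (hRS : R = (S : Subgroup G)) : False := by
  classical
  subst hRS
  obtain ⟨C0, hC0⟩ := hR.ex
  obtain ⟨B, hB, hmin⟩ := Set.exists_min_image {C : Subgroup G | RMem S (S : Subgroup G) C}
    (fun C => Nat.card C) (Set.toFinite _) ⟨C0, hC0⟩
  set L := mover S (S : Subgroup G) B with hL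
  have hsF : (L : Set G) ⊆ fixedPts S (S : Subgroup G) B := fun l hl => by
    simpa using mul_mem_fixedPts hl (one_mem_fixedPts hR hB)
  have hgen : wspan S (L : Set G) = B := by
    refine eq_of_le_of_card_le (wspan_le fun g hg => (hsF hg).1) ?_
    exact hmin _ (rmem_wspan hc hR hB hsF (one_mem _) fun l hl g hg => mul_mem hl hg)
  have hBS : B ≤ (S : Subgroup G) := hR.member_le hB
  have hBN : normalizer (B : Set G) ≤ normalizer (B : Set G) := le_rfl
  set K := fixMod (zc S) B with hK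
  have hKN : K ≤ normalizer (B : Set G) := fun x hx => hx.2.1
  have hKW : ∀ g : G, cj g (wz S) ≤ B → K ≤ normalizer (cj g (wz S) : Set G) := fun g hg x hx =>
    mem_normalizer_of_cj_eq (cj_eq_self_of_le (cj_le.mpr fun v hv => by
      simpa using mul_mem (zc_le_conj g (hx.2.2 v (hg hv))) hv))
  have hKH : K ≤ wn S := by
    have h := hKW 1 (by rw [cj_one]; exact hB.1.le)
    rwa [cj_one] at h
  have hKn : ∀ g ∈ normalizer (B : Set G), cj g K = K := fun g hg =>
    cj_eq_self_of_le (cj_le.mpr fun x hx => fixMod_normalized ((normalizer_eq_top (H := zc S)).ge (mem_top g)) hg hx)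
  set T := (S : Subgroup G) ⊓ K with hT
  have hTs : IsSylowIn p T K := by
    obtain ⟨T', hT', hle⟩ := H48.exists_isSylowIn_ge (S.isPGroup'.to_le (inf_le_left : T ≤ _)) inf_le_right
    have hSN : IsSylowIn p (S : Subgroup G) (normalizer (B : Set G)) :=
      ⟨hB.2, S.isPGroup', fun hd => S.not_dvd_index (hd.trans (relIndex_dvd_index_of_le hB.2))⟩
    obtain ⟨x, hx, hxT⟩ := hSN.exists_cj_le hT'.isPGroup (hT'.le.trans hKN)
    have : cj x T' ≤ T := le_inf hxT ((cj_mono hT'.le).trans (hKn x hx).le)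
    have he : T = T' := eq_of_le_of_card_le hle ((card_cj x T').symm.trans_le (Subgroup.card_le_of_le this))
    rwa [he]
  have hmove : ∀ l ∈ L, ∃ k ∈ K, k * l ∈ normalizer (jay 0 T : Set G) := by
    intro l hl
    have hT' := hTs.cj l
    rw [hKn l hl.1] at hT'
    obtain ⟨k, hk, he⟩ := hT'.exists_conj hTs
    exact ⟨k, hk, normalizer_le_normalizer_jay 0 T (mem_normalizer_of_cj_eq (by rw [← cj_cj]; exact he))⟩
  by_cases hall : ∀ A ∈ maxIn 0 (S : Subgroup G), A ≤ K
  · have hJ : jay 0 T = jay 0 (S : Subgroup G) :=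
      jay_eq_of_le (le_inf jay_le (sSup_le hall)) inf_le_left
    refine mover_not_le hc hR hB fun l hl => ?_
    obtain ⟨k, hk, hkl⟩ := hmove l hl
    rw [hJ] at hkl
    simpa using mul_mem (inv_mem (hKH hk)) (normalizer_jay_le_normalizer_zjay 0 _ hkl : k * l ∈ wn S)
  push Not at hall
  obtain ⟨A, ⟨hA, hAK⟩, hmax⟩ := Set.exists_max_image {A | A ∈ maxIn 0 (S : Subgroup G) ∧ ¬ A ≤ K}
    (fun A => Nat.card ↥(A ⊓ B)) (Set.toFinite _) hall
  have hBBz : ⁅B, B⁆ ≤ zc S := commutator_le.mpr fun x hx y hy => by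
    rw [commutatorElement_def]; exact hB.1.comm x hx y hy
  have hBA : B ≤ normalizer (A : Set G) := by
    by_contra hnot
    have hclass : ⁅⁅B, B⁆, B⁆ = ⊥ := commutator_eq_bot_iff_le_centralizer.mpr (hBBz.trans
      fun x hx => mem_centralizer_iff.mpr fun y _ => mem_center_iff.mp hx.1 y)
    obtain ⟨A', hA'S, hA'e, hA'c, hlt, hA'N, -⟩ := replacement (e := 0) (.inl hc.odd) (.inl rfl) S.isPGroup' hBS
      hB.2 hA.1 hA.2.1 hclass (hBBz.trans (zc_le_wz.trans (zjay_zero_le hA))) hnot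
    have hA'm : A' ∈ maxIn 0 (S : Subgroup G) := mem_maxIn_of_card_eq hA hA'S hA'e hA'c
    have hA'K : A' ≤ K := by
      by_contra h
      have hlt' := lt_of_le_of_ne (Subgroup.card_le_of_le hlt.le)
        fun he => hlt.ne (eq_of_le_of_card_le hlt.le he.ge)
      exact absurd (hmax A' ⟨hA'm, h⟩) (not_le.mpr hlt')
    have hA'T : A' ≤ T := le_inf hA'S hA'K
    have hJT : jay 0 T ≤ jay 0 (S : Subgroup G) := jay_le_jay_of_mem hA'm hA'T inf_le_left
    have hBC : B ≤ centralizer (jay 0 T : Set G) := by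
      rw [← hgen]
      refine wspan_le fun l hl => ?_
      obtain ⟨k, hk, hkl⟩ := hmove l hl
      rw [← cj_eq_of_mem_normalizer (hKW l (hsF hl).1 hk), cj_cj]
      refine cj_le.mpr fun w hw => mem_centralizer_iff.mpr fun j hj => ?_
      have hj' : (k * l)⁻¹ * j * (k * l) ∈ jay 0 T := by
        simpa using (mem_normalizer_iff.mp (inv_mem hkl) j).mp hj
      have h := mem_centralizer_iff.mp hw.2 _ (hJT hj')
      have h' := congrArg (fun z => (k * l) * z * (k * l)⁻¹) h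
      simpa [mul_assoc] using h'
    refine hnot fun x hx => hA'N ?_
    exact mem_of_mem_centralizer hA'm (hBS hx) (centralizer_le (le_jay
      (show A' ∈ maxIn 0 T from (maxIn_eq_of_mem hA'm hA'T inf_le_left).symm ▸ ⟨hA'm, hA'T⟩)) (hBC hx)) (pow_zero _)
  refine hAK fun a ha => ?_
  have haS : a ∈ (S : Subgroup G) := hA.1 ha
  have hquad : a ∈ quadSet S B := by
    refine ⟨hB.2 haS, exists_pow_eq_one_of_mem S.isPGroup' haS, fun x hx => ?_⟩
    have h1 : a * x * a⁻¹ * x⁻¹ ∈ A := by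
      rw [show a * x * a⁻¹ * x⁻¹ = a * (x * a⁻¹ * x⁻¹) by group]
      exact mul_mem ha ((mem_normalizer_iff.mp (hBA hx) _).mp (inv_mem ha))
    rw [hA.2.1.comm ha h1, mul_inv_cancel_right, mul_inv_cancel]
    exact one_mem _
  have haP : a ∈ quadGen S (S : Subgroup G) B := mem_quadGen hquad haS
  refine ⟨(normalizer_eq_top (H := zc S)).ge (mem_top a), hB.2 haS, ?_⟩
  set π := QuotientGroup.mk' (zc S)
  have hπ : ∀ x, a * x * a⁻¹ * x⁻¹ ∈ zc S ↔ π x ∈ centralizer {π a} := fun x => by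
    rw [← QuotientGroup.eq_one_iff, mem_centralizer_singleton_iff]
    show π (a * x * a⁻¹ * x⁻¹) = 1 ↔ _
    rw [map_mul, map_mul, map_mul, map_inv, map_inv, mul_inv_eq_one, mul_inv_eq_iff_eq_mul]
    exact eq_comm
  suffices B ≤ (centralizer ({π a} : Set (G ⧸ zc S))).comap π from fun v hv => (hπ v).mpr (this hv)
  rw [← hgen]
  refine wspan_le fun l hl => fun v hv => (hπ v).mp ?_
  by_contra hz
  have hlB := (hsF hl).1
  have h1 : a * v * a⁻¹ * v⁻¹ ∈ cj l (wz S) :=
    mul_mem ((mem_normalizer_iff.mp ((hsF hl).2 haP) v).mp hv) (inv_mem hv)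
  have h2 : a * v * a⁻¹ * v⁻¹ ∈ A := by
    rw [show a * v * a⁻¹ * v⁻¹ = a * (v * a⁻¹ * v⁻¹) by group]
    exact mul_mem ha ((mem_normalizer_iff.mp (hBA (hlB hv)) _).mp (inv_mem ha))
  have hle := hc.loc_mem hA S.isPGroup' hA.1 (hlB.trans hBS) h2 h1 (not_mem_center_of_not_mem_zc h1 hz)
  refine hz ?_
  rw [hA.2.1.comm ha (hle hv), mul_inv_cancel_right, mul_inv_cancel]
  exact one_mem _

/-- the case `R < S` -/
theorem proper_false (hc : Ctx p S) (hR : Base S R) (hRS : R ≠ (S : Subgroup G)) : False := by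
  classical
  obtain ⟨C0, hC0⟩ := hR.ex
  obtain ⟨T0, hT0, -⟩ := exists_terminal hc hR ∅ C0 hC0 (fun g hg => hg.elim) (fun _ _ _ g hg => hg.elim)
  obtain ⟨B, ⟨hB, hBgen⟩, hmax⟩ := Set.exists_max_image {C : Subgroup G | Terminal S R C}
    (fun C => Nat.card C) (Set.toFinite _) ⟨T0, hT0⟩
  set P := quadGen S R B with hP
  set F := fixedPts S R B
  set Y := (S : Subgroup G) ⊓ normalizer (R : Set G) with hY
  have hlt := H48.card_lt_card_inf_normalizer S.isPGroup' hR.le hRS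
  obtain ⟨y0, hy0, hy0R⟩ : ∃ y ∈ Y, y ∉ R := by
    by_contra hno
    push Not at hno
    exact absurd (Subgroup.card_le_of_le hno) (not_le.mpr hlt)
  have hY1 : R ≤ Y := le_inf hR.le le_normalizer
  have hYR : ∀ y ∈ Y, ∀ r ∈ R, y⁻¹ * r * y ∈ R := fun y hy r hr => by
    simpa using (mem_normalizer_iff.mp (inv_mem hy.2) r).mp hr
  have hyB : ∀ y ∈ Y, RMem S R (cj y B) := by
    intro y hy
    have hW : cj y (wz S) = wz S := cj_eq_of_mem_normalizer (sylow_le_wn hy.1)
    refine ⟨⟨hW.ge.trans (cj_mono hB.1.le), isPGroup_cj hB.1.isPGroup, fun a ha b hb => ?_, fun hle => hB.1.not_le ?_⟩, ?_⟩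
    · have := Normal.conj_mem (zc_normal S) _ (hB.1.comm _ (mem_cj.mp ha) _ (mem_cj.mp hb)) y
      convert this using 1
      group
    · have h1 := cj_mono (g := y⁻¹) ((H48.cj_normalizer y B).le.trans hle)
      rw [cj_inv_cj] at h1
      exact h1.trans (cj_eq_of_mem_normalizer (inv_mem (le_normalizer (sylow_le_wn hy.1)))).le
    · rw [← cj_eq_of_mem_normalizer hy.2, ← H48.cj_normalizer]; exact cj_mono hB.2
  have hyBR : ∀ y ∈ Y, cj y B ≤ R := fun y hy => hR.member_le (hyB y hy)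
  -- `yB ≤ P`
  have hyP : ∀ y ∈ Y, cj y B ≤ P := fun y hy v hv => by
    refine mem_quadGen ⟨hB.2 (hyBR y hy hv), exists_pow_eq_one_of_mem (hyB y hy).1.isPGroup hv, fun x hx => ?_⟩ (hyBR y hy hv)
    refine (hyB y hy).1.comm v hv _ ?_
    rw [show v * x * v⁻¹ * x⁻¹ = v * (x * v⁻¹ * x⁻¹) by group]
    exact mul_mem hv ((mem_normalizer_iff.mp ((hyB y hy).2 (hR.member_le hB hx)) _).mp (inv_mem hv))
  have hlP : ∀ l ∈ mover S R B, cj l P = P := fun l hl => cj_eq_of_mem_normalizer hl.2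
  have hXP : ∀ l ∈ mover S R B, ∀ y ∈ Y, cj l (cj y B) ≤ P := fun l hl y hy =>
    (cj_mono (hyP y hy)).trans (hlP l hl).le
  have hgenle : ∀ l ∈ mover S R B, ∀ y ∈ Y, ∀ g ∈ F, cj (l * y * g) (wz S) ≤ cj l (cj y B) :=
    fun l hl y hy g hg => by rw [← cj_cj, ← cj_cj]; exact cj_mono (cj_mono hg.1)
  -- the pull back of a quadratic element
  have hpull : ∀ y ∈ Y, ∀ g ∈ F, ∀ d ∈ R, IsQuad (zc S) (cj y B) d →
      d ∈ normalizer (cj (y * g) (wz S) : Set G) := by
    intro y hy g hg d hd hq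
    have hdR : y⁻¹ * d * y ∈ R := hYR y hy d hd
    have hD : y⁻¹ * d * y ∈ quadSet S B := by
      refine ⟨hB.2 hdR, exists_pow_eq_one_of_mem (S.isPGroup'.to_le hR.le) hdR, fun x hx => ?_⟩
      have h1 := Normal.conj_mem (zc_normal S) _ (hq _ (conj_mem_cj (g := y) hx)) y⁻¹
      convert h1 using 1
      group
    rw [← cj_cj, ← H48.cj_normalizer]
    exact mem_cj.mpr (hg.2 (mem_quadGen hD hdR))
  set s : Set G := {x | ∃ l ∈ mover S R B, ∃ y ∈ Y, ∃ g ∈ F, x = l * y * g} with hs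
  have hsR : ∀ x ∈ s, cj x (wz S) ≤ R := by
    rintro _ ⟨l, hl, y, hy, g, hg, rfl⟩
    exact (hgenle l hl y hy g hg).trans ((hXP l hl y hy).trans quadGen_le)
  have hone : (1 : G) ∈ s := ⟨1, one_mem _, 1, one_mem _, 1, one_mem_fixedPts hR hB, by simp⟩
  have hnorm : ∀ x ∈ s, ∀ x' ∈ s, cj x (wz S) ≤ normalizer (cj x' (wz S) : Set G) := by
    rintro _ ⟨l, hl, y, hy, g, hg, rfl⟩ _ ⟨l', hl', y', hy', g', hg', rfl⟩ v hv
    set l'' := l'⁻¹ * l with hl''
    have hl''m : l'' ∈ mover S R B := mul_mem (inv_mem hl') hl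
    have hd : l'⁻¹ * v * l' ∈ cj l'' (cj y B) := by
      have := conj_mem_cj (g := l'⁻¹) (hgenle l hl y hy g hg hv)
      rw [cj_cj, ← hl''] at this
      simpa using this
    set d := l'⁻¹ * v * l'
    have hdR : d ∈ R := quadGen_le (hXP l'' hl''m y hy hd)
    have hXn : P ≤ normalizer (cj l'' (cj y B) : Set G) := by
      rw [← H48.cj_normalizer l'']
      exact (hlP l'' hl''m).ge.trans (cj_mono (quadGen_le.trans (hyB y hy).2))
    have hq : IsQuad (zc S) (cj y' B) d := fun x hx => by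
      have h1 : d * x * d⁻¹ * x⁻¹ ∈ cj l'' (cj y B) := by
        rw [show d * x * d⁻¹ * x⁻¹ = d * (x * d⁻¹ * x⁻¹) by group]
        exact mul_mem hd ((mem_normalizer_iff.mp (hXn (hyP y' hy' hx)) _).mp (inv_mem hd))
      have h2 := Normal.conj_mem (zc_normal S) _ ((hyB y hy).1.comm _ (mem_cj.mp hd) _ (mem_cj.mp h1)) l''
      convert h2 using 1
      group
    have hdn := hpull y' hy' g' hg' d hdR hq
    rw [mul_assoc l', ← cj_cj, ← H48.cj_normalizer l']
    exact mem_cj.mpr hdn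
  set U := wspan S s with hU
  have hUn : mover S R B ≤ normalizer (U : Set G) := fun k hk => mem_normalizer_closure_conj fun x hx => by
    obtain ⟨l, hl, y, hy, g, hg, rfl⟩ := hx
    exact ⟨k * l * y * g, ⟨k * l, mul_mem hk hl, y, hy, g, hg, rfl⟩, by simp [mul_assoc]⟩
  have hUmem : RMem S R U := ⟨member_of_closure hc (S.isPGroup'.to_le hR.le) hsR hone hnorm
    fun h => mover_not_le hc hR hB (hUn.trans h), (le_mover hB).trans hUn⟩
  have hlyB : ∀ l ∈ mover S R B, ∀ y ∈ Y, ∀ C : Subgroup G, (∀ x ∈ s, cj x (wz S) ≤ C) → cj l (cj y B) ≤ C := by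
    intro l hl y hy C hC
    rw [cj_cj]
    refine (cj_mono hBgen).trans ?_
    rw [cj_wspan]
    refine wspan_le ?_
    rintro _ ⟨g, hg, rfl⟩
    exact hC _ ⟨l, hl, y, hy, g, hg, rfl⟩
  have hfix : ∀ C : Subgroup G, RMem S R C → (∀ x ∈ s, cj x (wz S) ≤ C) →
      ∀ x ∈ s, quadGen S R C ≤ normalizer (cj x (wz S) : Set G) := by
    rintro C hC hCs _ ⟨l, hl, y, hy, g, hg, rfl⟩
    refine (closure_le _).mpr fun d hd => ?_
    have hBC : B ≤ C := by
      have := hlyB 1 (one_mem _) 1 (one_mem _) C hCs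
      rwa [cj_one, cj_one] at this
    have hdP : d ∈ P := mem_quadGen ⟨hB.2 hd.2, hd.1.2.1, fun x hx => hd.1.2.2 x (hBC hx)⟩ hd.2
    have he : l⁻¹ * d * l ∈ R := by
      refine quadGen_le (?_ : _ ∈ P)
      have := (mem_normalizer_iff.mp (inv_mem hl.2) d).mp hdP
      simpa using this
    have hq : IsQuad (zc S) (cj y B) (l⁻¹ * d * l) := fun x hx => by
      have h1 := Normal.conj_mem (zc_normal S) _ (hd.1.2.2 _ (hlyB l hl y hy C hCs (conj_mem_cj (g := l) hx))) l⁻¹
      convert h1 using 1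
      group
    rw [SetLike.mem_coe, mul_assoc l, ← cj_cj, ← H48.cj_normalizer l]
    exact mem_cj.mpr (hpull y hy g hg _ he hq)
  obtain ⟨C', hC', hC's⟩ := exists_terminal hc hR s U hUmem (fun x hx => cj_le_wspan hx) hfix
  have hBC' : B ≤ C' := by
    have := hlyB 1 (one_mem _) 1 (one_mem _) C' hC's
    rwa [cj_one, cj_one] at this
  have heq := eq_of_le_of_card_le hBC' (hmax C' hC')
  subst heq
  have h1 := hlyB 1 (one_mem _) y0 hy0 B hC's
  rw [cj_one] at h1
  refine hy0R ?_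
  rw [hR.eq_inf hB]
  exact ⟨hy0.1, mem_normalizer_of_cj_eq (cj_eq_self_of_le h1)⟩

/-- **case two is impossible** -/
theorem conj_eq_of_le (hc : Ctx p S) {g : G} (hg : cj g (wz S) ≤ (S : Subgroup G)) : cj g (wz S) = wz S := by
  by_contra hne
  obtain ⟨B, hB⟩ := exists_member hc ⟨g, hg, hne⟩
  obtain ⟨R, hR⟩ := exists_base hB
  by_cases hRS : R = (S : Subgroup G)
  · exact full_false hc hR hRS
  · exact proper_false hc hR hRS

end Cfsg.Agent.H1.Glauberman
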