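import Cfsg.Agent.H1.Glauberman.Member
import Cfsg.Agent.Thompson.PStable

/-!
A quadratic element outside `stabPre B` gives a non-unipotent pair on a chief factor below `B`.
-/

set_option autoImplicit false

namespace Cfsg.Agent.H1.Glauberman

open Subgroup Cfsg.Agent.Thompson
open scoped commutatorElement

universe u

variable {p : ℕ} [Fact p.Prime] {G : Type u} [Group G] [Finite G]

/-- a proper subgroup of a `p`-group lies in a normal one with elementary abelian quotient -/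
theorem exists_elem_quotient {P : Type u} [Group P] [Finite P] (hP : IsPGroup p P) {N : Subgroup P}
    (hN : N ≠ ⊤) : ∃ K : Subgroup P, K ≠ ⊤ ∧ N ≤ K ∧ (∀ x y : P, x * y * x⁻¹ * y⁻¹ ∈ K) ∧ ∀ x : P, x ^ p ∈ K := by
  obtain ⟨K, hK, hNK⟩ := (eq_top_or_exists_le_coatom N).resolve_left hN
  have : Group.IsNilpotent P := hP.isNilpotent
  have : K.Normal := NormalizerCondition.normal_of_coatom K Group.normalizerCondition_of_isNilpotent hK
  set π := QuotientGroup.mk' K
  have hQ : IsPGroup p (P ⧸ K) := hP.to_quotient K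
  have hnt : Nontrivial (P ⧸ K) := by
    rw [QuotientGroup.nontrivial_iff]
    exact hK.1
  obtain ⟨n, hn0, hn⟩ := hQ.nontrivial_iff_card.mp hnt
  obtain ⟨y, hy⟩ := exists_prime_orderOf_dvd_card' p (G := P ⧸ K) (hn ▸ dvd_pow_self p hn0.ne')
  have htop : ∀ x : P ⧸ K, x ∈ zpowers y := by
    intro x
    obtain ⟨x, rfl⟩ := QuotientGroup.mk'_surjective K x
    have hlt : K < (zpowers y).comap π := by
      refine lt_of_le_of_ne (fun z hz => ?_) fun he => ?_
      · show π z ∈ zpowers y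
        rw [show π z = 1 from (QuotientGroup.eq_one_iff _).mpr hz]; exact one_mem _
      · obtain ⟨z, rfl⟩ := QuotientGroup.mk'_surjective K y
        have hz : z ∈ (zpowers (π z)).comap π := mem_zpowers (π z)
        rw [← he] at hz
        rw [show π z = 1 from (QuotientGroup.eq_one_iff _).mpr hz, orderOf_one] at hy
        exact (Fact.out : p.Prime).one_lt.ne hy
    exact ((hK.2 _ hlt).ge (mem_top x) :)
  refine ⟨K, hK.1, hNK, fun x y' => (QuotientGroup.eq_one_iff _).mp ?_, fun x => (QuotientGroup.eq_one_iff _).mp ?_⟩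
  · show π (x * y' * x⁻¹ * y'⁻¹) = 1
    obtain ⟨i, hi⟩ := htop (π x)
    obtain ⟨j, hj⟩ := htop (π y')
    simp only at hi hj
    rw [map_mul, map_mul, map_mul, map_inv, map_inv, ← hi, ← hj, (Commute.zpow_zpow_self y i j).eq,
      mul_inv_cancel_right, mul_inv_cancel]
  · show π (x ^ p) = 1
    obtain ⟨i, hi⟩ := htop (π x)
    simp only at hi
    rw [map_pow, ← hi, ← zpow_natCast, ← _root_.zpow_mul, mul_comm, _root_.zpow_mul, zpow_natCast,
      ← hy, pow_orderOf_eq_one, one_zpow]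

omit [Finite G] in
theorem stabPre_bot (p : ℕ) : stabPre p (⊥ : Subgroup G) = ⊤ := by
  refine top_le_iff.mp ((le_of_eq ?_).trans (centralizer_le_stabPre _))
  rw [eq_comm, eq_top_iff']
  exact fun x => mem_centralizer_iff.mpr fun y hy => by rw [mem_bot.mp hy, one_mul, mul_one]

theorem exists_chief_pair {Q : Subgroup G} [hQn : Q.Normal] (hQ : IsPGroup p Q) {a : G}
    (ha : a ∉ stabPre p Q) :
    ∃ (B Nn : Subgroup G), B.Normal ∧ Nn.Normal ∧ B ≤ Q ∧ IsElemSection p Nn B ∧ ∃ g : G,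
      ¬ ∀ h ∈ closure ({a, g * a * g⁻¹} : Set G), ∃ k : ℕ, ∀ x ∈ B,
        h ^ p ^ k * x * (h ^ p ^ k)⁻¹ * x⁻¹ ∈ Nn := by
  classical
  obtain ⟨B, ⟨hBn, hBQ, haB⟩, hBmin⟩ := Set.exists_min_image
    {B : Subgroup G | ∃ h : B.Normal, B ≤ Q ∧ a ∉ @stabPre G _ p B h} (fun B => Nat.card B) (Set.toFinite _)
    ⟨Q, hQn, le_rfl, ha⟩
  have hB0 : B ≠ ⊥ := by
    rintro rfl
    exact haB ((stabPre_bot (G := G) p).ge (mem_top a))
  obtain ⟨Nn, ⟨hNn, hNB⟩, hNmax⟩ := Set.exists_max_image {N : Subgroup G | N.Normal ∧ N < B}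
    (fun N => Nat.card N) (Set.toFinite _) ⟨⊥, inferInstance, bot_lt_iff_ne_bot.mpr hB0⟩
  have hBp : IsPGroup p B := hQ.to_le hBQ
  have hsect : IsElemSection p Nn B := by
    obtain ⟨K, hK, hNK, hKc, hKp⟩ := exists_elem_quotient hBp (N := Nn.subgroupOf B)
      (fun h => (not_le_of_gt hNB) (subgroupOf_eq_top.mp h))
    set s : Set G := {z | ∃ b ∈ B, b ^ p = z} with hs
    have hsn : (closure s).Normal := normalizer_eq_top_iff.mp (top_le_iff.mp fun g _ =>
      mem_normalizer_closure fun z ⟨b, hb, hz⟩ => ⟨_, hBn.conj_mem b hb g, by rw [conj_pow, hz]⟩)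
    set Φ := Nn ⊔ ⁅B, B⁆ ⊔ closure s with hΦ
    have hle : Φ ≤ K.map B.subtype := by
      refine sup_le (sup_le (fun z hz => ⟨⟨z, hNB.le hz⟩, hNK hz, rfl⟩) (commutator_le.mpr fun x hx y hy => ?_)) ?_
      · rw [commutatorElement_def]
        exact ⟨_, hKc ⟨x, hx⟩ ⟨y, hy⟩, rfl⟩
      · rw [closure_le]
        rintro _ ⟨b, hb, rfl⟩
        exact ⟨_, hKp ⟨b, hb⟩, rfl⟩
    have hlt : Φ < B := lt_of_le_of_ne (hle.trans (map_subtype_le K)) fun he => hK (by
      refine map_injective B.subtype_injective ?_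
      rw [← MonoidHom.range_eq_map, range_subtype]
      exact le_antisymm (map_subtype_le K) (he.ge.trans hle))
    have heq : Nn = Φ := H48.eq_of_le_of_card_le (le_sup_left.trans le_sup_left)
      (hNmax Φ ⟨inferInstance, hlt⟩)
    refine ⟨hNB.le, fun x hx y hy => ?_, fun x hx => ?_⟩
    · rw [heq, ← commutatorElement_def]
      exact mem_sup_left (mem_sup_right (commutator_mem_commutator hx hy))
    · rw [heq]
      exact mem_sup_right (subset_closure ⟨x, hx, rfl⟩)
  have haN : a ∈ stabPre p Nn := by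
    by_contra h
    have hlt : Nat.card Nn < Nat.card B :=
      lt_of_le_of_ne (Subgroup.card_le_of_le hNB.le) fun he => hNB.ne (H48.eq_of_le_of_card_le hNB.le he.ge)
    exact absurd (hBmin Nn ⟨hNn, hNB.le.trans hBQ, h⟩) (not_le.mpr hlt)
  refine ⟨B, Nn, hBn, hNn, hBQ, hsect, ?_⟩
  by_contra hall
  push Not at hall
  set π := QuotientGroup.mk' Nn with hπ
  have : (B.map π).Normal := hBn.map π (QuotientGroup.mk'_surjective _)
  set Kf := (centralizer ((B.map π : Subgroup (G ⧸ Nn)) : Set (G ⧸ Nn))).comap π with hKf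
  have hKfe : ∀ {z : G}, (∀ x ∈ B, z * x * z⁻¹ * x⁻¹ ∈ Nn) → z ∈ Kf := fun {z} h => by
    refine mem_centralizer_iff.mpr ?_
    rintro _ ⟨x, hx, rfl⟩
    have h1 : π (z * x * z⁻¹ * x⁻¹) = 1 := (QuotientGroup.eq_one_iff _).mpr (h x hx)
    rw [map_mul, map_mul, map_mul, map_inv, map_inv, mul_inv_eq_one, mul_inv_eq_iff_eq_mul] at h1
    exact h1.symm
  set σ := QuotientGroup.mk' Kf with hσdef
  obtain ⟨N, hN1, hN2, hN3⟩ := baer_suzuki (p := p) (x := σ a) fun y => by
    obtain ⟨g, rfl⟩ := QuotientGroup.mk'_surjective Kf y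
    rintro ⟨w, hw⟩
    have hw' : w ∈ (closure ({a, g * a * g⁻¹} : Set G)).map σ := by
      rw [MonoidHom.map_closure, Set.image_pair, map_mul, map_mul, map_inv]
      exact hw
    obtain ⟨h, hh, rfl⟩ := hw'
    obtain ⟨k, hk⟩ := hall g h hh
    exact ⟨k, Subtype.ext ((map_pow σ h _).symm.trans ((QuotientGroup.eq_one_iff _).mpr (hKfe hk)))⟩
  have haK : σ a ∈ pCore p (G ⧸ Kf) := Cores.le_pCore (hN := hN1) hN2 hN3
  set D := stabPre p Nn ⊓ (pCore p (G ⧸ Kf)).comap σ with hD
  suffices hD' : D ≤ stabPre p B from haB (hD' ⟨haN, haK⟩)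
  set τ := QuotientGroup.mk' (centralizer (B : Set G))
  have : ((pCore p (G ⧸ Kf)).comap σ).Normal := Normal.comap (pCore_normal p _) _
  have : (D.map τ).Normal := Normal.map inferInstance τ (QuotientGroup.mk'_surjective _)
  rw [stabPre, ← map_le_iff_le_comap]
  refine Cores.le_pCore ?_
  rintro ⟨_, d, hd, rfl⟩
  obtain ⟨i, hi⟩ := Cores.pCore_isPGroup (p := p) ⟨_, hd.1⟩
  have hdi : d ^ p ^ i ∈ centralizer (Nn : Set G) :=
    (QuotientGroup.eq_one_iff _).mp (congrArg Subtype.val hi)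
  obtain ⟨j, hj⟩ := Cores.pCore_isPGroup (p := p) ⟨_, hd.2⟩
  have hdj : d ^ p ^ j ∈ Kf := (QuotientGroup.eq_one_iff _).mp (congrArg Subtype.val hj)
  obtain ⟨k, hk⟩ := Cfsg.Agent.Fusion.exists_pow_coprime (p := p) (d ^ p ^ (i + j))
  set g := (d ^ p ^ (i + j)) ^ p ^ k with hg
  have hgN : g ∈ centralizer (Nn : Set G) := by
    rw [hg, pow_add, pow_mul]; exact pow_mem (pow_mem hdi _) _
  have hgK : g ∈ Kf := by
    rw [hg, pow_add, mul_comm (p ^ i), pow_mul]; exact pow_mem (pow_mem hdj _) _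
  have hgc : g ∈ centralizer (B : Set G) := by
    refine mem_centralizer_iff.mpr fun b hb => ?_
    set c := b⁻¹ * (g * b * g⁻¹) with hc
    have hcN : c ∈ Nn := by
      refine (QuotientGroup.eq_one_iff (N := Nn) _).mp ?_
      show π c = 1
      rw [hc, map_mul, map_inv, map_mul, map_mul, map_inv,
        ← mem_centralizer_iff.mp hgK _ ⟨b, hb, rfl⟩, mul_inv_cancel_right, inv_mul_cancel]
    have hgc : Commute g c := (mem_centralizer_iff.mp hgN c hcN).symm
    have hgb : g * b = b * (c * g) := by rw [hc]; group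
    have hn : ∀ m : ℕ, g ^ m * b = b * (c ^ m * g ^ m) := by
      intro m
      induction m with
      | zero => simp
      | succ m ihm =>
        calc g ^ (m + 1) * b = g * (g ^ m * b) := by rw [pow_succ', mul_assoc]
          _ = (g * b) * (c ^ m * g ^ m) := by rw [ihm, mul_assoc]
          _ = b * (c * ((g * c ^ m) * g ^ m)) := by rw [hgb]; simp only [mul_assoc]
          _ = _ := by
            rw [(hgc.pow_right m).eq, pow_succ' c, pow_succ' g]
            simp only [mul_assoc]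
    have h := hn (orderOf g)
    rw [pow_orderOf_eq_one, one_mul, mul_one] at h
    obtain ⟨l, hl⟩ := exists_pow_eq_one_of_mem (hBp.to_le hNB.le) hcN
    have hc1 : c = 1 := orderOf_eq_one_iff.mp (Nat.eq_one_of_dvd_coprimes (hk.pow_right l)
      (orderOf_dvd_of_pow_eq_one (left_eq_mul.mp h)) (orderOf_dvd_of_pow_eq_one hl))
    rw [hgb, hc1, one_mul]
  refine ⟨i + j + k, Subtype.ext ?_⟩
  show τ d ^ p ^ (i + j + k) = 1
  rw [← map_pow, pow_add, pow_mul]
  exact (QuotientGroup.eq_one_iff _).mpr hgc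

end Cfsg.Agent.H1.Glauberman
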