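import Mathlib
import Cfsg.Agent.H48.SylowIn
import Cfsg.Agent.Fusion.PResidual
import Cfsg.Agent.Thompson.Section
import Cfsg.Agent.Thompson.Jay

/-!
An automorphism of an abelian `p`-group with an eigenvalue `n` on a section has an element of order `p`
with the same eigenvalue (up to a `p`-power); the index `|N(C) : C(C)| = p - 1`.
-/

set_option autoImplicit false

namespace Cfsg.Agent.H1.Glauberman

open Subgroup

variable {G : Type*} [Group G] {p : ℕ}

/-- `n` is a generator of `(ℤ/p)ˣ` -/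
def IsPrimitive (p n : ℕ) : Prop :=
  ∀ a : ℕ, ¬ p ∣ a → ∃ i : ℕ, n ^ i ≡ a [MOD p]

theorem exists_isPrimitive (p : ℕ) [hp : Fact p.Prime] : ∃ n, IsPrimitive p n := by
  obtain ⟨g, hg⟩ := IsCyclic.exists_generator (α := (ZMod p)ˣ)
  refine ⟨(g : ZMod p).val, fun a ha => ?_⟩
  have ha0 : (a : ZMod p) ≠ 0 := by rwa [Ne, ZMod.natCast_eq_zero_iff]
  obtain ⟨i, hi⟩ := (mem_powers_iff_mem_zpowers).mpr (hg (Units.mk0 (a : ZMod p) ha0))
  refine ⟨i, (ZMod.natCast_eq_natCast_iff _ _ p).mp ?_⟩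
  rw [Nat.cast_pow, ZMod.natCast_zmod_val, ← Units.val_pow_eq_pow_val]
  exact congrArg Units.val hi

theorem IsPrimitive.not_dvd [hp : Fact p.Prime] {n : ℕ} (hn : IsPrimitive p n) (h3 : p ≠ 2) : ¬ p ∣ n := by
  intro hd
  obtain ⟨i, hi⟩ := hn (p - 1) (fun h => by
    have := Nat.le_of_dvd (by have := hp.out.two_le; omega) h
    have := hp.out.two_le; omega)
  rcases i with _ | i
  · rw [pow_zero] at hi
    have h2 := hp.out.two_le
    have := Nat.ModEq.eq_of_lt_of_lt hi (by omega) (by omega)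
    omega
  · have h0 : p ∣ n ^ (i + 1) := dvd_pow hd (Nat.succ_ne_zero i)
    have : p ∣ p - 1 := hi.dvd_iff dvd_rfl |>.mp h0
    have := Nat.le_of_dvd (by have := hp.out.two_le; omega) this
    have := hp.out.two_le; omega

theorem conj_pow_of_eq {h c : G} {n : ℕ} (he : h * c * h⁻¹ = c ^ n) : ∀ i : ℕ, h ^ i * c * (h ^ i)⁻¹ = c ^ (n ^ i)
  | 0 => by simp
  | i + 1 => by
    calc h ^ (i + 1) * c * (h ^ (i + 1))⁻¹ = h ^ i * (h * c * h⁻¹) * (h ^ i)⁻¹ := by rw [pow_succ]; group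
      _ = (h ^ i * c * (h ^ i)⁻¹) ^ n := by rw [he, conj_pow]
      _ = _ := by rw [conj_pow_of_eq he i, ← pow_mul, pow_succ]

/-- an endomorphism of finite order prime to `p` with an eigenvalue on a section -/
theorem exists_eigen_endo {Y : Type*} [AddCommGroup Y] [Finite Y] [hp : Fact p.Prime] {M : ℕ}
    (hM : ∀ y : Y, p ^ M • y = 0) (θ : AddMonoid.End Y) {o : ℕ} (ho : θ ^ o = 1) (hop : o.Coprime p)
    (Y' : AddSubgroup Y) (hY' : ∀ y ∈ Y', θ y ∈ Y') {u : Y} (hu : u ∉ Y') (hup : p • u ∈ Y')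
    {n : ℕ} (hn : ¬ p ∣ n) (hθu : θ u - n • u ∈ Y') :
    ∃ c : Y, c ≠ 0 ∧ p • c = 0 ∧ θ c = n • c := by
  classical
  have hp2 := hp.out.two_le
  set ζ := n ^ p ^ M
  have hζn : ζ ≡ n [MOD p] := by
    refine (ZMod.natCast_eq_natCast_iff _ _ p).mp ?_
    simp only [ζ, Nat.cast_pow, ZMod.pow_card_pow]
  have hfer : n ^ (p - 1) ≡ 1 [MOD p] := by
    have h := ZMod.pow_card_sub_one_eq_one (p := p) (a := (n : ZMod p)) (by rwa [Ne, ZMod.natCast_eq_zero_iff])
    exact (ZMod.natCast_eq_natCast_iff _ _ p).mp (by simpa using h)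
  have hζ1 : ∀ y : Y, ζ ^ (p - 1) • y = y := by
    intro y
    have h1 : (p : ℤ) ∣ ((n ^ (p - 1) : ℕ) : ℤ) - 1 := by
      have := hfer.symm
      exact_mod_cast Nat.modEq_iff_dvd.mp this
    have h2 := dvd_sub_pow_of_dvd_sub (R := ℤ) (a := ((n ^ (p - 1) : ℕ) : ℤ)) (b := 1) (p := p) h1 M
    rw [one_pow] at h2
    obtain ⟨k, hk⟩ := h2
    have h3 : ((ζ ^ (p - 1) : ℕ) : ℤ) = 1 + (p : ℤ) ^ (M + 1) * k := by
      rw [← hk]; simp only [ζ, Nat.cast_pow]; ring
    rw [← natCast_zsmul, h3, add_smul, one_smul, pow_succ, mul_assoc, mul_comm (_ ^ M), mul_smul,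
      ← Nat.cast_pow, natCast_zsmul, hM, smul_zero, add_zero]
  set ζ' := ζ ^ (p - 2)
  have hζζ : ∀ y : Y, ζ • ζ' • y = y := by
    intro y
    rw [smul_smul, ← pow_succ', show p - 2 + 1 = p - 1 by omega, hζ1]
  let σ : AddMonoid.End Y := (ζ' : AddMonoid.End Y) * θ
  have hσapp : ∀ y, σ y = ζ' • θ y := fun y => by
    show (ζ' : AddMonoid.End Y) (θ y) = _
    exact AddMonoid.End.natCast_apply _ _
  have hcomm : Commute (ζ' : AddMonoid.End Y) θ := Nat.cast_commute _ _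
  have hσo : σ ^ (o * (p - 1)) = 1 := by
    rw [hcomm.mul_pow, pow_mul θ, ho, one_pow, mul_one]
    refine AddMonoidHom.ext fun y => ?_
    rw [← Nat.cast_pow]
    refine (AddMonoid.End.natCast_apply _ _).trans ?_
    show (ζ ^ (p - 2)) ^ (o * (p - 1)) • y = y
    rw [← pow_mul, show (p - 2) * (o * (p - 1)) = (p - 1) * ((p - 2) * o) by ring, pow_mul]
    induction (p - 2) * o with
    | zero => simp
    | succ i ih => rw [pow_succ, mul_smul, hζ1, ih]
  set o' := o * (p - 1)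
  let N : AddMonoid.End Y := ∑ i ∈ Finset.range o', σ ^ i
  have hσN : σ * N = N := by
    have h := geom_sum_mul σ o'
    have h' := mul_geom_sum σ o'
    rw [hσo, sub_self, sub_mul, one_mul, sub_eq_zero] at h'
    exact h'
  have hθN : ∀ y, θ (N y) = ζ • N y := fun y => by
    have h : (σ * N) y = N y := congrArg (fun f : AddMonoid.End Y => f y) hσN
    conv_rhs => rw [← h]
    show _ = ζ • σ (N y)
    rw [hσapp, hζζ]
  have hpY : ∀ (i : ℕ) , i ≡ 1 [MOD p] → i • u - u ∈ Y' := by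
    intro i hi
    have hi1 : 1 ≤ i := by
      rcases i with _ | i
      · exact absurd hi (by intro h; have := Nat.ModEq.eq_of_lt_of_lt h (by omega) (by omega); omega)
      · omega
    obtain ⟨k, hk⟩ := (Nat.modEq_iff_dvd' hi1).mp hi.symm
    have h2 : i • u - u = k • (p • u) := by
      rw [sub_eq_iff_eq_add, smul_smul]
      nth_rewrite 3 [← one_nsmul u]
      rw [← add_smul]; congr 1; rw [mul_comm] at hk; omega
    rw [h2]; exact nsmul_mem hup _
  have hσY : ∀ y ∈ Y', σ y ∈ Y' := fun y hy => by rw [hσapp]; exact nsmul_mem (hY' y hy) _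
  have hσu : σ u - u ∈ Y' := by
    have h1 : ζ' * n ≡ 1 [MOD p] := by
      calc ζ' * n ≡ n ^ (p - 2) * n [MOD p] := (hζn.pow _).mul_right _
        _ = n ^ (p - 1) := by rw [← pow_succ]; congr 1; omega
        _ ≡ 1 [MOD p] := hfer
    have h2 : σ u - u = ζ' • (θ u - n • u) + ((ζ' * n) • u - u) := by
      rw [hσapp, smul_sub, smul_smul]; abel
    rw [h2]; exact add_mem (nsmul_mem hθu _) (hpY _ h1)
  have hσiu : ∀ i : ℕ, (σ ^ i) u - u ∈ Y' := by
    intro i
    induction i with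
    | zero => simp
    | succ i ih =>
      have h2 : (σ ^ (i + 1)) u - u = σ ((σ ^ i) u - u) + (σ u - u) := by
        rw [pow_succ']; show σ ((σ ^ i) u) - u = _
        rw [map_sub]; abel
      rw [h2]; exact add_mem (hσY _ ih) hσu
  have hNu : N u ≠ 0 := by
    intro h0
    have h1 : N u = ∑ i ∈ Finset.range o', (σ ^ i) u := AddMonoidHom.finsetSum_apply _ _ _
    have h2 : o' • u ∈ Y' := by
      have : o' • u = N u - ∑ i ∈ Finset.range o', ((σ ^ i) u - u) := by
        rw [h1, Finset.sum_sub_distrib, Finset.sum_const, Finset.card_range]; abel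
      rw [this, h0]
      exact sub_mem (zero_mem _) (AddSubgroup.sum_mem _ fun i _ => hσiu i)
    have hco : o'.Coprime p := Nat.Coprime.mul_left hop
      (hp.out.coprime_iff_not_dvd.mpr (fun h => by have := Nat.le_of_dvd (by omega) h; omega)).symm
    obtain ⟨k, -, hk⟩ := Nat.exists_mul_mod_eq_one_of_coprime hco hp.out.one_lt
    refine hu ?_
    have h3 : (o' * k) • u ∈ Y' := by rw [mul_comm, mul_smul]; exact nsmul_mem h2 _
    have h4 := hpY (o' * k) (by show o' * k % p = 1 % p; rw [Nat.mod_eq_of_lt hp.out.one_lt]; exact hk)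
    simpa using sub_mem h3 h4
  have hex : ∃ j, p ^ j • N u = 0 := ⟨M, hM _⟩
  have hj0 : Nat.find hex ≠ 0 := fun h => hNu (by simpa [h] using Nat.find_spec hex)
  obtain ⟨j, hj⟩ := Nat.exists_eq_succ_of_ne_zero hj0
  refine ⟨p ^ j • N u, Nat.find_min hex (by omega), ?_, ?_⟩
  · rw [smul_smul, ← pow_succ']; exact (congrArg (fun i => p ^ i • N u) hj.symm).trans (Nat.find_spec hex)
  · rw [map_nsmul, hθN]
    have hc : p • (p ^ j • N u) = 0 := by
      rw [smul_smul, ← pow_succ']; exact (congrArg (fun i => p ^ i • N u) hj.symm).trans (Nat.find_spec hex)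
    rw [smul_comm]
    rw [← Nat.mod_add_div ζ p, ← Nat.mod_add_div n p, hζn, add_smul, add_smul, mul_smul, mul_smul,
      smul_comm p (ζ / p), smul_comm p (n / p), hc, smul_zero, smul_zero]

/-- eigen-element of order `p` -/
theorem exists_eigen [Finite G] [hp : Fact p.Prime] {Y Y' : Subgroup G} (hYc : IsMulCommutative Y)
    (hYp : IsPGroup p Y) (hle : Y' ≤ Y) {h u : G} (hhY : h ∈ normalizer (Y : Set G))
    (hhY' : h ∈ normalizer (Y' : Set G)) (hu : u ∈ Y) (hu' : u ∉ Y') (hup : u ^ p ∈ Y')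
    {n : ℕ} (hn : ¬ p ∣ n) (he : h * u * h⁻¹ * (u ^ n)⁻¹ ∈ Y') :
    ∃ c ∈ Y, orderOf c = p ∧ ∃ k ∈ zpowers h, k * c * k⁻¹ = c ^ n := by
  obtain ⟨j, hj⟩ := Fusion.exists_pow_coprime (p := p) h
  set k := h ^ p ^ j
  obtain ⟨M, hM⟩ := IsPGroup.iff_card.mp hYp
  -- the relation for `h ^ i`
  have hi : ∀ i : ℕ, h ^ i * u * (h ^ i)⁻¹ * (u ^ n ^ i)⁻¹ ∈ Y' := by
    intro i
    induction i with
    | zero => simp
    | succ i ih =>
      set r := h ^ i * u * (h ^ i)⁻¹ * (u ^ n ^ i)⁻¹ with hr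
      set s := h * u * h⁻¹ * (u ^ n)⁻¹ with hs
      have hrr : h * r * h⁻¹ ∈ Y' := (mem_normalizer_iff.mp hhY' r).mp ih
      have hsY : s ∈ Y := hle he
      have hcs : Commute s (u ^ n) :=
        Thompson.isMulCommutative_iff_forall.mp hYc s hsY _ (pow_mem hu _)
      have e1 : h * u ^ n ^ i * h⁻¹ = s ^ n ^ i * u ^ n ^ (i + 1) := by
        rw [← conj_pow, show h * u * h⁻¹ = s * u ^ n by rw [hs]; group, hcs.mul_pow, ← pow_mul, ← pow_succ']
      have e2 : h ^ (i + 1) * u * (h ^ (i + 1))⁻¹ * (u ^ n ^ (i + 1))⁻¹ = h * r * h⁻¹ * s ^ n ^ i := by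
        calc h ^ (i + 1) * u * (h ^ (i + 1))⁻¹ * (u ^ n ^ (i + 1))⁻¹
            = h * r * h⁻¹ * (h * u ^ n ^ i * h⁻¹) * (u ^ n ^ (i + 1))⁻¹ := by
              rw [hr, pow_succ' h]; group
          _ = _ := by rw [e1]; group
      rw [e2]; exact mul_mem hrr (pow_mem he _)
  have hk : k ∈ normalizer (Y : Set G) := pow_mem hhY _
  have hk' : k ∈ normalizer (Y' : Set G) := pow_mem hhY' _
  have := hYc
  let θ : AddMonoid.End (Additive Y) := Thompson.conjEnd (zpowers_le.mpr hk) ⟨k, mem_zpowers k⟩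
  have hθ : ∀ y : Y, ((Additive.toMul (θ (Additive.ofMul y)) : Y) : G) = k * y * k⁻¹ := fun y =>
    Thompson.conjEnd_apply (zpowers_le.mpr hk) ⟨k, mem_zpowers k⟩ _
  have ho : θ ^ orderOf k = 1 := by
    rw [← map_pow]
    convert map_one (Thompson.conjEnd (V := Y) (zpowers_le.mpr hk))
    exact Subtype.ext (pow_orderOf_eq_one k)
  let Ya : AddSubgroup (Additive Y) := (Y'.subgroupOf Y).toAddSubgroup
  have hYa : ∀ y : Additive Y, y ∈ Ya ↔ ((Additive.toMul y : Y) : G) ∈ Y' := fun y => Iff.rfl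
  have hnn : u ^ n ^ p ^ j * (u ^ n)⁻¹ ∈ Y' := by
    have hmod : n ^ p ^ j % p = n % p := by
      refine (ZMod.natCast_eq_natCast_iff _ _ p).mp ?_
      rw [Nat.cast_pow, ZMod.pow_card_pow]
    have e : ∀ i : ℕ, u ^ i = u ^ (i % p) * (u ^ p) ^ (i / p) := fun i => by
      rw [← pow_mul, ← pow_add, Nat.mod_add_div]
    rw [e (n ^ p ^ j), e n, hmod, mul_inv_rev, mul_assoc, ← mul_assoc ((u ^ p) ^ _)]
    have hcy : Commute (u ^ (n % p)) ((u ^ p) ^ (n ^ p ^ j / p) * ((u ^ p) ^ (n / p))⁻¹) :=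
      ((Commute.pow_pow_self u _ _).pow_right _).mul_right ((Commute.pow_pow_self u _ _).pow_right _).inv_right
    rw [← mul_assoc, hcy.eq, mul_inv_cancel_right]
    exact mul_mem (pow_mem hup _) (inv_mem (pow_mem hup _))
  have hMY : ∀ y : Additive Y, p ^ M • y = 0 := fun y => by
    refine congrArg Additive.ofMul (Subtype.ext (?_ : ((Additive.toMul y : Y) : G) ^ p ^ M = 1))
    exact orderOf_dvd_iff_pow_eq_one.mp (hM ▸ Subgroup.orderOf_dvd_natCard Y (Additive.toMul y).2)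
  let u0 : Additive Y := Additive.ofMul ⟨u, hu⟩
  have hθY : ∀ y ∈ Ya, θ y ∈ Ya := fun y hy => by
    rw [hYa, show ((Additive.toMul (θ y) : Y) : G) = k * (Additive.toMul y : Y) * k⁻¹ from hθ _]
    exact (mem_normalizer_iff.mp hk' _).mp hy
  have hθu : θ u0 - n • u0 ∈ Ya := by
    rw [hYa, sub_eq_add_neg]
    show ((Additive.toMul (θ u0) : Y) : G) * (u ^ n)⁻¹ ∈ Y'
    rw [show ((Additive.toMul (θ u0) : Y) : G) = k * u * k⁻¹ from hθ _]
    have := mul_mem (hi (p ^ j)) hnn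
    convert this using 1
    show k * u * k⁻¹ * (u ^ n)⁻¹ = _
    simp only [k]; group
  let _ : CommGroup Y := { (inferInstance : Group Y) with
    mul_comm := fun a b => Subtype.ext (Thompson.isMulCommutative_iff_forall.mp hYc _ a.2 _ b.2) }
  obtain ⟨c, hc0, hcp, hcθ⟩ := exists_eigen_endo (p := p) hMY θ ho hj Ya hθY (u := u0) hu' hup hn hθu
  refine ⟨((Additive.toMul c : Y) : G), (Additive.toMul c).2, orderOf_eq_prime ?_ ?_, k, npow_mem_zpowers _ _, ?_⟩
  · exact congrArg (fun y : Additive Y => ((Additive.toMul y : Y) : G)) hcp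
  · intro h1
    exact hc0 (congrArg Additive.ofMul (Subtype.ext h1))
  · refine (hθ (Additive.toMul c)).symm.trans ?_
    exact congrArg (fun y : Additive Y => ((Additive.toMul y : Y) : G)) hcθ

/-- the index `|N_H(C) : C_H(C)|` -/
theorem relIndex_eq_sub_one [Finite G] [hp : Fact p.Prime] {H : Subgroup G} {c h : G} (hc : orderOf c = p)
    (hh : h ∈ H) {n : ℕ} (hn : IsPrimitive p n) (he : h * c * h⁻¹ = c ^ n) :
    (H ⊓ centralizer ((zpowers c : Subgroup G) : Set G)).relIndex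
      (H ⊓ normalizer ((zpowers c : Subgroup G) : Set G)) = p - 1 := by
  set C := zpowers c
  set L := H ⊓ normalizer (C : Set G)
  let φ : L →* MulAut C := C.normalizerMonoidHom.comp (inclusion inf_le_right)
  have hker : φ.ker = (H ⊓ centralizer (C : Set G)).subgroupOf L := by
    rw [← MonoidHom.comap_ker, normalizerMonoidHom_ker]
    ext x
    simp only [mem_comap, mem_subgroupOf, mem_inf, coe_inclusion]
    exact ⟨fun h => ⟨x.2.1, h⟩, fun h => h.2⟩
  have hcard : Nat.card C = p := (Nat.card_zpowers c).trans hc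
  have hcard' : Nat.card (MulAut C) = p - 1 := by
    rw [IsCyclic.card_mulAut, hcard, Nat.totient_prime hp.out]
  have hc1 : c ≠ 1 := fun h => by rw [h, orderOf_one] at hc; exact hp.out.one_lt.ne hc
  have hCh : C.map (MulAut.conj h).toMonoidHom ≤ C := by
    rw [MonoidHom.map_zpowers, zpowers_le]
    show h * c * h⁻¹ ∈ C
    rw [he]; exact pow_mem (mem_zpowers c) n
  have hhL : h ∈ L := ⟨hh, H48.mem_normalizer_of_cj_eq (H48.cj_eq_self_of_le hCh)⟩
  have hsurj : Function.Surjective φ := by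
    intro α
    obtain ⟨a, ha⟩ : ∃ a : ℕ, c ^ a = (α ⟨c, mem_zpowers c⟩ : G) := by
      obtain ⟨a, ha⟩ := (mem_powers_iff_mem_zpowers).mpr (α ⟨c, mem_zpowers c⟩).2
      exact ⟨a, ha⟩
    obtain ⟨i, hi⟩ := hn a (fun hd => hc1 (by
      have h1 : α ⟨c, mem_zpowers c⟩ = α 1 := by
        rw [map_one]; refine Subtype.ext ?_
        rw [← ha]; exact orderOf_dvd_iff_pow_eq_one.mp (hc ▸ hd)
      exact congrArg Subtype.val (α.injective h1)))
    refine ⟨⟨h ^ i, L.pow_mem hhL i⟩, ?_⟩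
    have key : φ ⟨h ^ i, L.pow_mem hhL i⟩ ⟨c, mem_zpowers c⟩ = α ⟨c, mem_zpowers c⟩ := by
      refine Subtype.ext ?_
      show h ^ i * c * (h ^ i)⁻¹ = _
      rw [conj_pow_of_eq he i, ← ha, pow_eq_pow_iff_modEq, hc]
      exact hi
    refine MulEquiv.ext fun x => ?_
    obtain ⟨b, hb⟩ := mem_zpowers_iff.mp x.2
    have hx : x = (⟨c, mem_zpowers c⟩ : C) ^ b := Subtype.ext (by rw [coe_zpow]; exact hb.symm)
    rw [hx, map_zpow, map_zpow, key]
  show ((H ⊓ centralizer (C : Set G)).subgroupOf L).index = _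
  rw [← hker, index_ker, MonoidHom.range_eq_top.mpr hsurj, card_top, hcard']

end Cfsg.Agent.H1.Glauberman
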