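import Mathlib
import Cfsg.Agent.Thompson.QuadraticPair

/-!
Two quadratically acting generators and a vector `u` on which they are not unipotent: a subgroup `N`
and a vector `e` such that `a` acts as a transvection on the plane `⟨u, e⟩` modulo `N`, and every
eigenvalue in the prime field is realised on it.
-/

set_option autoImplicit false

namespace Cfsg.Agent.H1.Glauberman

open Matrix Cfsg.Agent.Thompson

local notation "SL" => Matrix.SpecialLinearGroup (Fin 2)

variable {p : ℕ} [Fact p.Prime]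

/-- the diagonal matrices of `SL₂(p)` are realised by upper triangular matrices -/
theorem exists_upper_mem {k : Type*} [Field k] [CharP k p] (hp : p ≠ 2) (H : Subgroup (SL k)) [Finite H]
    (hone : up 1 ∈ H) {μ : k} (hμ : μ ≠ 0) (hlow : low μ ∈ H) {i j : ZMod p} (hij : i * j = 1) :
    ∃ g ∈ H, g 1 0 = 0 ∧ g 0 0 = ZMod.castHom dvd_rfl k i ∧ g 1 1 = ZMod.castHom dvd_rfl k j := by
  let H' : Subgroup (SL k) :=
    { carrier := {g | g ∈ H ∨ -g ∈ H}
      one_mem' := Or.inl H.one_mem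
      mul_mem' := by
        rintro a b (ha | ha) (hb | hb)
        · exact .inl (H.mul_mem ha hb)
        · exact .inr (by simpa using H.mul_mem ha hb)
        · exact .inr (by simpa using H.mul_mem ha hb)
        · exact .inl (by simpa using H.mul_mem ha hb)
      inv_mem' := by
        rintro a (ha | ha)
        · exact .inl (H.inv_mem ha)
        · refine .inr ?_
          convert H.inv_mem ha using 1
          exact eq_inv_of_mul_eq_one_left (by simp) }
  have : Finite H' := by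
    have : Finite (H ⊕ H) := inferInstance
    refine Finite.of_surjective (fun x : H ⊕ H =>
      x.elim (fun h => (⟨h.1, .inl h.2⟩ : H')) (fun h => ⟨-h.1, .inr (by simp)⟩)) ?_
    rintro ⟨g, hg | hg⟩
    · exact ⟨.inl ⟨g, hg⟩, rfl⟩
    · exact ⟨.inr ⟨-g, hg⟩, by simp⟩
  obtain ⟨g, hg, htr, t, ht, r, hr, hct⟩ :=
    hasLinkedPair_of_mem (p := p) H' hp (.inl hone) (.inr (by simp [H.one_mem])) hμ (.inl hlow)
  set φ := ZMod.castHom dvd_rfl k (n := p) with hφ
  have hpodd : Odd p := (Fact.out : p.Prime).odd_of_ne_two hp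
  have hmemH : ∀ u : SL k, u ∈ H' → u ^ p = 1 → u ∈ H := by
    rintro u (hu | hu) hup
    · exact hu
    · have h1 := H.pow_mem hu p
      rw [hpodd.neg_pow, hup] at h1
      simpa using H.mul_mem h1 hu
  have hpk : (p : k) = 0 := CharP.cast_eq_zero k p
  have hupH : up t ∈ H := hmemH _ ht (by rw [up_pow, hpk, zero_mul, up_zero])
  have hφr : φ r ≠ 0 := fun h => hr (φ.injective (by rw [h, map_zero]))
  have hc : g 1 0 ≠ 0 := fun h => hφr (by rw [← hct, h, zero_mul])
  have ht0 : t ≠ 0 := fun h => hφr (by rw [← hct, h, mul_zero])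
  set s0 := (g 0 0 - 1) / g 1 0 with hs0
  have hgconj : g * up s0 = up s0 * low (g 1 0) := by
    have hd := sl_det_eq g
    apply sl2_ext <;> simp [sl_mul_apply, up_coe, low_coe, hs0]
    · field_simp; ring
    · field_simp; linear_combination -hd + g 0 0 * htr
    · field_simp; linear_combination htr
  have hgH : g ∈ H := by
    refine hmemH g hg ?_
    have h1 : g = up s0 * low (g 1 0) * (up s0)⁻¹ := eq_mul_inv_of_mul_eq hgconj
    rw [h1, conj_pow, low_pow, hpk, zero_mul, low_zero, mul_one, mul_inv_cancel]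
  let C : Matrix (Fin 2) (Fin 2) k := (up s0 : Matrix (Fin 2) (Fin 2) k) * !![t, 0; 0, 1]
  let S : Subgroup (SL (ZMod p)) :=
    { carrier := {X | ∃ g ∈ H, (g : Matrix (Fin 2) (Fin 2) k) * C = C * (X : Matrix (Fin 2) (Fin 2) (ZMod p)).map φ}
      one_mem' := ⟨1, H.one_mem, by simp⟩
      mul_mem' := by
        rintro X Y ⟨a, ha, hX⟩ ⟨b, hb, hY⟩
        refine ⟨a * b, H.mul_mem ha hb, ?_⟩
        rw [Matrix.SpecialLinearGroup.coe_mul, mul_assoc, hY, ← mul_assoc, hX,
          Matrix.SpecialLinearGroup.coe_mul, Matrix.map_mul, mul_assoc]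
      inv_mem' := by
        rintro X ⟨a, ha, hX⟩
        refine ⟨a⁻¹, H.inv_mem ha, ?_⟩
        have h1 : (X : Matrix (Fin 2) (Fin 2) (ZMod p)).map φ * (X⁻¹ : SL (ZMod p)).1.map φ = 1 := by
          rw [← Matrix.map_mul, ← Matrix.SpecialLinearGroup.coe_mul, mul_inv_cancel]; simp
        have h2 : (a⁻¹ : SL k).1 * a.1 = 1 := by
          rw [← Matrix.SpecialLinearGroup.coe_mul, inv_mul_cancel]; rfl
        calc (a⁻¹ : SL k).1 * C = (a⁻¹ : SL k).1 * (C * (X.1.map φ * (X⁻¹ : SL (ZMod p)).1.map φ)) := by rw [h1, mul_one]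
          _ = (a⁻¹ : SL k).1 * a.1 * C * (X⁻¹ : SL (ZMod p)).1.map φ := by rw [← mul_assoc C, ← hX]; simp [mul_assoc]
          _ = _ := by rw [h2, one_mul] }
  have hS : Subgroup.closure {up (1 : ZMod p), low r} ≤ S := by
    refine (Subgroup.closure_le _).mpr ?_
    rintro x (rfl | rfl)
    · refine ⟨up t, hupH, ?_⟩
      ext i j; fin_cases i <;> fin_cases j <;> simp [C, up_coe, Matrix.mul_apply, Fin.sum_univ_two] <;> ring
    · refine ⟨g, hgH, ?_⟩
      rw [show C = (up s0).1 * !![t, 0; 0, 1] from rfl, ← mul_assoc, ← Matrix.SpecialLinearGroup.coe_mul, hgconj,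
        Matrix.SpecialLinearGroup.coe_mul, mul_assoc, mul_assoc]
      congr 1
      ext i j; fin_cases i <;> fin_cases j <;> simp [low_coe, Matrix.mul_apply, Fin.sum_univ_two, ← hct]
  let X : SL (ZMod p) := ⟨!![i, 0; 0, j], by rw [Matrix.det_fin_two]; simp [hij]⟩
  obtain ⟨M, hM, hMC⟩ := hS ((closure_up_low p hr).symm ▸ Subgroup.mem_top X)
  have e := fun x y => congrArg (fun m : Matrix (Fin 2) (Fin 2) k => m x y) hMC
  have e00 := e 0 0
  have e10 := e 1 0
  have e11 := e 1 1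
  simp [C, X, up_coe, Matrix.mul_apply, Fin.sum_univ_two] at e00 e10 e11
  have h10 : M 1 0 = 0 := e10.resolve_right ht0
  refine ⟨M, hM, h10, mul_right_cancel₀ ht0 (e00.trans (mul_comm _ _)), ?_⟩
  rw [h10, zero_mul, zero_add] at e11
  exact e11

variable {H : Type*} [Group H] {V : Type*} [AddCommGroup V]

set_option maxHeartbeats 1000000 in
theorem exists_plane [Finite V] (hp : p ≠ 2) (hV : ∀ v : V, p • v = 0) (ρ : H →* AddMonoid.End V)
    {a b : H} (hab : Subgroup.closure {a, b} = ⊤)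
    (hA : (ρ a - 1) * (ρ a - 1) = 0) (hB : (ρ b - 1) * (ρ b - 1) = 0) {u : V}
    (hu : ∀ n : ℕ, (((ρ a - 1) * (ρ b - 1) + (ρ b - 1) * (ρ a - 1)) ^ n) u ≠ 0)
    (hAu : ∃ n : ℕ, (((ρ a - 1) * (ρ b - 1) + (ρ b - 1) * (ρ a - 1)) ^ n) ((ρ a - 1) u) = 0) :
    ∃ (N : AddSubgroup V) (e : V), u ∉ N ∧ (∀ v ∈ N, ρ a v ∈ N) ∧ ρ a u - u ∈ N ∧ ρ a e - (e + u) ∈ N ∧
      ∀ i j : ℕ, i * j ≡ 1 [MOD p] → ∃ h : H, (∀ v ∈ N, ρ h v ∈ N) ∧ ρ h u - i • u ∈ N ∧
        ∃ l : ℕ, ρ h e - (j • e + l • u) ∈ N := by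
  classical
  set A := ρ a - 1 with hAdef
  set B := ρ b - 1 with hBdef
  set z := A * B + B * A with hz
  have hAA : ∀ v, A (A v) = 0 := fun v => by rw [← end_mul_apply, hA]; rfl
  have hBB : ∀ v, B (B v) = 0 := fun v => by rw [← end_mul_apply, hB]; rfl
  have hzv : ∀ v, z v = A (B v) + B (A v) := fun v => by
    rw [hz, end_add_apply, end_mul_apply, end_mul_apply]
  have hzA : ∀ v, z (A v) = A (z v) := fun v => by rw [hzv, hzv, hAA, map_zero, add_zero, map_add, hAA, zero_add]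
  have hzB : ∀ v, z (B v) = B (z v) := fun v => by rw [hzv, hzv, hBB, map_zero, zero_add, map_add, hBB, add_zero]
  have hzpA : ∀ n v, (z ^ n) (A v) = A ((z ^ n) v) := fun n => by
    induction n with
    | zero => intro v; rfl
    | succ n ih => intro v; rw [pow_succ', AddMonoid.End.coe_mul]; simp only [Function.comp_apply]; rw [ih, hzA]
  have hzpB : ∀ n v, (z ^ n) (B v) = B ((z ^ n) v) := fun n => by
    induction n with
    | zero => intro v; rfl
    | succ n ih => intro v; rw [pow_succ', AddMonoid.End.coe_mul]; simp only [Function.comp_apply]; rw [ih, hzB]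
  -- stable image
  have hanti : ∀ n, endImage (z ^ (n + 1)) ≤ endImage (z ^ n) := by
    rintro n _ ⟨v, rfl⟩; exact ⟨z v, ((congrArg (fun f : AddMonoid.End V => f v) (pow_succ z n)).trans (end_mul_apply _ _ v)).symm⟩
  obtain ⟨N0, hN0⟩ : ∃ N, endImage (z ^ (N + 1)) = endImage (z ^ N) := by
    by_contra hne
    push Not at hne
    exact (Finite.exists_ne_map_eq_of_infinite fun n : ℕ => (endImage (z ^ n))).elim fun i ⟨j, hij, he⟩ =>
      hij ((strictAnti_nat_of_succ_lt (f := fun n : ℕ => endImage (z ^ n)) fun n =>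
        lt_of_le_of_ne (hanti n) (hne n)).injective he)
  obtain ⟨m, hm⟩ := hAu
  set N := N0 + m with hNdef
  have hNst : endImage (z ^ (N + 1)) = endImage (z ^ N) := by
    have key : ∀ i, endImage (z ^ (N0 + i + 1)) = endImage (z ^ (N0 + i)) := by
      intro i
      induction i with
      | zero => exact hN0
      | succ i ih =>
        have e : ∀ n, endImage (z ^ (n + 1)) = (endImage (z ^ n)).map (z : V →+ V) := fun n => by
          rw [endImage, endImage, pow_succ']; exact (AddMonoidHom.range_comp _ _)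
        rw [show N0 + (i + 1) + 1 = (N0 + i + 1) + 1 by ring, e, ih, ← e]
        rfl
    exact key m
  set V1 := endImage (z ^ N) with hV1
  have hzV1 : ∀ v ∈ V1, ∃ w ∈ V1, z w = v := by
    rintro v hv
    obtain ⟨w, rfl⟩ : v ∈ endImage (z ^ (N + 1)) := hNst.ge hv
    exact ⟨(z ^ N) w, ⟨w, rfl⟩, ((congrArg (fun f : AddMonoid.End V => f w) (pow_succ' z N)).trans (end_mul_apply _ _ w)).symm⟩
  set w1 := (z ^ N) u with hw1
  have hAw1 : A w1 = 0 := by
    rw [← hzpA, hNdef, pow_add, end_mul_apply, hm, map_zero]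
  -- a maximal invariant subgroup avoiding `w1`
  let Inv : AddSubgroup V → Prop := fun U => w1 ∉ U ∧ U ≤ V1 ∧ ∀ v ∈ U, A v ∈ U ∧ B v ∈ U
  obtain ⟨N', hN'⟩ : ∃ U, Maximal Inv U := by
    refine Set.Finite.exists_maximal (Set.toFinite {U | Inv U}) ⟨⊥, fun h => hu N (AddSubgroup.mem_bot.mp h), bot_le, ?_⟩
    intro v hv
    rw [AddSubgroup.mem_bot] at hv
    subst hv
    simp
  obtain ⟨⟨hw1N, hN'V1, hN'AB⟩, hN'max⟩ := hN'
  set q : V →+ V ⧸ N' := QuotientAddGroup.mk' N' with hq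
  let AQ : AddMonoid.End (V ⧸ N') := QuotientAddGroup.map N' N' (A : V →+ V) fun v hv => (hN'AB v hv).1
  let BQ : AddMonoid.End (V ⧸ N') := QuotientAddGroup.map N' N' (B : V →+ V) fun v hv => (hN'AB v hv).2
  have hAQ : ∀ v, AQ (q v) = q (A v) := fun _ => rfl
  have hBQ : ∀ v, BQ (q v) = q (B v) := fun _ => rfl
  have hqs : Function.Surjective q := QuotientAddGroup.mk'_surjective N'
  -- `ρ` preserves `N'`
  have hPN : ∀ h : H, ∀ v ∈ N', ρ h v ∈ N' := by
    refine endo_induction hab ρ (P := fun f => ∀ v ∈ N', f v ∈ N') (fun v hv => hv)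
      (fun f g hf hg v hv => hf _ (hg v hv)) ?_ ?_ ?_ ?_
    · intro v hv
      have : ρ a v = v + A v := by rw [hAdef, end_sub_apply, end_one_apply, add_sub_cancel]
      rw [this]; exact add_mem hv (hN'AB v hv).1
    · intro v hv
      rw [inv_of_sq_zero ρ hA, ← hAdef]; exact sub_mem hv (hN'AB v hv).1
    · intro v hv
      have : ρ b v = v + B v := by rw [hBdef, end_sub_apply, end_one_apply, add_sub_cancel]
      rw [this]; exact add_mem hv (hN'AB v hv).2
    · intro v hv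
      rw [inv_of_sq_zero ρ hB, ← hBdef]; exact sub_mem hv (hN'AB v hv).2
  have hzcomm : ∀ (h : H) (v : V), (z ^ N) (ρ h v) = ρ h ((z ^ N) v) := fun h => by
    refine endo_induction hab ρ (P := fun f => ∀ v, (z ^ N) (f v) = f ((z ^ N) v)) (fun v => rfl)
      (fun f g hf hg v => by rw [end_mul_apply, hf, hg, end_mul_apply]) ?_ ?_ ?_ ?_ h
    · intro v
      rw [show ρ a = 1 + A by rw [hAdef]; abel, end_add_apply, end_add_apply, end_one_apply, end_one_apply,
        map_add, hzpA]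
    · intro v
      rw [inv_of_sq_zero ρ hA, ← hAdef, end_sub_apply 1 A v, end_sub_apply 1 A ((z ^ N) v), end_one_apply, end_one_apply, map_sub, hzpA]
    · intro v
      rw [show ρ b = 1 + B by rw [hBdef]; abel, end_add_apply, end_add_apply, end_one_apply, end_one_apply,
        map_add, hzpB]
    · intro v
      rw [inv_of_sq_zero ρ hB, ← hBdef, end_sub_apply 1 B v, end_sub_apply 1 B ((z ^ N) v), end_one_apply, end_one_apply, map_sub, hzpB]
  -- the minimal invariant subgroup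
  let InvQ : AddSubgroup (V ⧸ N') → Prop := fun U => U ≠ ⊥ ∧ U ≤ V1.map q ∧ ∀ v ∈ U, AQ v ∈ U ∧ BQ v ∈ U
  have hw0 : q w1 ≠ 0 := fun h => hw1N ((QuotientAddGroup.eq_zero_iff _).mp h)
  have hV1AB : ∀ v ∈ V1, A v ∈ V1 ∧ B v ∈ V1 := by
    rintro _ ⟨w, rfl⟩
    exact ⟨⟨A w, hzpA N w⟩, ⟨B w, hzpB N w⟩⟩
  obtain ⟨U, hU⟩ : ∃ U, Minimal InvQ U := by
    refine Set.Finite.exists_minimal (Set.toFinite {U | InvQ U}) ⟨V1.map q, ?_, le_rfl, ?_⟩
    · exact fun hbot => hw0 (AddSubgroup.mem_bot.mp (hbot ▸ (⟨w1, ⟨u, rfl⟩, rfl⟩ : q w1 ∈ V1.map q)))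
    · rintro _ ⟨w, hw, rfl⟩
      exact ⟨⟨A w, (hV1AB w hw).1, rfl⟩, ⟨B w, (hV1AB w hw).2, rfl⟩⟩
  obtain ⟨⟨hU0, hUV1, hUAB⟩, hUmin⟩ := hU
  have hUmin' : ∀ U' ≤ U, U' ≠ ⊥ → (∀ v ∈ U', AQ v ∈ U' ∧ BQ v ∈ U') → U' = U :=
    fun U' hle h0 hinv => le_antisymm hle (hUmin ⟨h0, hle.trans hUV1, hinv⟩ hle)
  have hw1U : q w1 ∈ U := by
    let P := (U.comap q) ⊓ V1
    have hP : N' ≤ P := fun v hv => ⟨by
      show q v ∈ U; rw [show q v = 0 from (QuotientAddGroup.eq_zero_iff v).mpr hv]; exact zero_mem _, hN'V1 hv⟩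
    have hwP : w1 ∈ P := by
      by_contra hnot
      have hle := hN'max ⟨hnot, inf_le_right, fun v hv => ⟨⟨(hUAB _ hv.1).1, (hV1AB v hv.2).1⟩,
        ⟨(hUAB _ hv.1).2, (hV1AB v hv.2).2⟩⟩⟩ hP
      refine hU0 (le_bot_iff.mp fun x hx => ?_)
      obtain ⟨v, hv, rfl⟩ := hUV1 hx
      exact AddSubgroup.mem_bot.mpr ((QuotientAddGroup.eq_zero_iff v).mpr (hle ⟨hx, hv⟩))
    exact hwP.1
  let AU : AddMonoid.End U := AddMonoidHom.codRestrict ((AQ : (V ⧸ N') →+ (V ⧸ N')).comp U.subtype) U fun v => (hUAB v v.2).1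
  let BU : AddMonoid.End U := AddMonoidHom.codRestrict ((BQ : (V ⧸ N') →+ (V ⧸ N')).comp U.subtype) U fun v => (hUAB v v.2).2
  have hAQQ : ∀ v, AQ (AQ v) = 0 := fun v => by
    obtain ⟨v, rfl⟩ := hqs v; rw [hAQ, hAQ, hAA, map_zero]
  have hBQQ : ∀ v, BQ (BQ v) = 0 := fun v => by
    obtain ⟨v, rfl⟩ := hqs v; rw [hBQ, hBQ, hBB, map_zero]
  let zU : AddMonoid.End U := AU * BU + BU * AU
  have hzUq : ∀ (x : U), ((zU x : U) : V ⧸ N') = AQ (BQ x) + BQ (AQ x) := fun _ => rfl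
  have hzU : ∀ (x : U) (v : V), q v = x → ((zU x : U) : V ⧸ N') = q (z v) := fun x v hv => by
    rw [hzUq, ← hv, hBQ, hAQ, hAQ, hBQ, ← map_add, ← hzv]
  have hcA : Commute zU AU := AddMonoidHom.ext fun v => Subtype.ext (by
    show ((zU (AU v) : U) : V ⧸ N') = AQ (zU v)
    rw [hzUq, hzUq, show ((AU v : U) : V ⧸ N') = AQ v from rfl, map_add, hAQQ, hAQQ, map_zero, add_zero, zero_add])
  have hcB : Commute zU BU := AddMonoidHom.ext fun v => Subtype.ext (by
    show ((zU (BU v) : U) : V ⧸ N') = BQ (zU v)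
    rw [hzUq, hzUq, show ((BU v : U) : V ⧸ N') = BQ v from rfl, map_add, hBQQ, hBQQ, map_zero, add_zero, zero_add])
  -- `zU` is injective
  have hzinj : ∀ x : U, zU x = 0 → x = 0 := by
    let zr : V1.map q → V1.map q := fun x => ⟨AQ (BQ x) + BQ (AQ x), by
      obtain ⟨v, hv, hvx⟩ := x.2
      refine ⟨z v, ?_, ?_⟩
      · rw [hzv]; exact add_mem (hV1AB _ (hV1AB v hv).2).1 (hV1AB _ (hV1AB v hv).1).2
      · rw [← hvx, hBQ, hAQ, hAQ, hBQ, hzv, map_add]⟩
    have hsur : Function.Surjective zr := by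
      rintro ⟨_, v, hv, rfl⟩
      obtain ⟨w, hw, rfl⟩ := hzV1 v hv
      refine ⟨⟨q w, w, hw, rfl⟩, Subtype.ext ?_⟩
      show AQ (BQ (q w)) + BQ (AQ (q w)) = q (z w)
      rw [hBQ, hAQ, hAQ, hBQ, hzv, map_add]
    intro x hx
    have h := Finite.injective_iff_surjective.mpr hsur (a₁ := ⟨x.1, hUV1 x.2⟩) (a₂ := 0) (Subtype.ext (by
      show AQ (BQ x.1) + BQ (AQ x.1) = AQ (BQ 0) + BQ (AQ 0)
      simp only [map_zero, add_zero]
      exact congrArg Subtype.val hx))
    exact Subtype.ext (congrArg (fun y : V1.map q => (y : V ⧸ N')) h)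
  let K := Subring.closure ({zU} : Set (AddMonoid.End U))
  have hK : ∀ x ∈ K, Commute x AU ∧ Commute x BU := fun x hx => by
    induction hx using Subring.closure_induction with
    | mem x hx => rw [Set.mem_singleton_iff.mp hx]; exact ⟨hcA, hcB⟩
    | zero => exact ⟨Commute.zero_left _, Commute.zero_left _⟩
    | one => exact ⟨Commute.one_left _, Commute.one_left _⟩
    | add x y _ _ h1 h2 => exact ⟨h1.1.add_left h2.1, h1.2.add_left h2.2⟩
    | neg x _ h1 => exact ⟨h1.1.neg_left, h1.2.neg_left⟩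
    | mul x y _ _ h1 h2 => exact ⟨h1.1.mul_left h2.1, h1.2.mul_left h2.2⟩
  have hinj : ∀ x : K, x ≠ 0 → ∀ v : U, x.1 v = 0 → v = 0 := by
    intro x hx v hv
    by_contra hv0
    let U' : AddSubgroup (V ⧸ N') := (AddMonoidHom.ker (x.1 : U →+ U)).map U.subtype
    have hU' : U' = U := by
      refine hUmin' U' ?_ ?_ ?_
      · rintro _ ⟨w, _, rfl⟩; exact w.2
      · intro hb
        exact hv0 (Subtype.ext (AddSubgroup.mem_bot.mp (hb ▸ (⟨v, hv, rfl⟩ : (v : V ⧸ N') ∈ U'))))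
      · rintro _ ⟨w, hw, rfl⟩
        have hw' : x.1 w = 0 := hw
        refine ⟨⟨AU w, ?_, rfl⟩, ⟨BU w, ?_, rfl⟩⟩
        · show x.1 (AU w) = 0
          rw [← end_mul_apply, (hK _ x.2).1.eq, end_mul_apply, hw', map_zero]
        · show x.1 (BU w) = 0
          rw [← end_mul_apply, (hK _ x.2).2.eq, end_mul_apply, hw', map_zero]
    refine hx (Subtype.ext (AddMonoidHom.ext fun w => ?_))
    obtain ⟨w', hw', hww⟩ := (hU'.ge w.2 : (w : V ⧸ N') ∈ U')
    rw [show w = w' from Subtype.ext hww.symm]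
    exact hw'
  let wU : U := ⟨q w1, hw1U⟩
  have hwU : wU ≠ 0 := fun h => hw0 (congrArg Subtype.val h)
  let _ : CommRing K := Subring.closureCommRingOfComm (by intro x hx y hy; rw [hx, hy])
  have : Nontrivial K := ⟨0, 1, fun h => hwU (congrArg (fun x : K => x.1 wU) h).symm⟩
  have : NoZeroDivisors K := ⟨fun {x y} hxy => by
    by_cases hx : x = 0
    · exact .inl hx
    · refine .inr (Subtype.ext (AddMonoidHom.ext fun v => hinj x hx _ ?_))
      exact congrArg (fun w : K => w.1 v) hxy⟩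
  have : IsDomain K := NoZeroDivisors.to_isDomain K
  have : Finite (AddMonoid.End U) := Finite.of_injective (fun f : AddMonoid.End U => (f : U → U)) DFunLike.coe_injective
  let _ : Field K := (Finite.isField_of_domain K).toField
  have : Nontrivial U := ⟨wU, 0, hwU⟩
  have hUp : CharP (AddMonoid.End U) p := end_charP fun v => Subtype.ext (by
    obtain ⟨v', hv'⟩ := hqs (v : V ⧸ N')
    rw [AddSubgroup.coe_nsmul, ← hv', ← map_nsmul, hV, map_zero]; rfl)
  have : CharP K p := RingHom.charP K.subtype Subtype.val_injective p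
  let μ : K := ⟨zU, Subring.subset_closure rfl⟩
  have hμ : μ ≠ 0 := fun h => hwU (hzinj _ (congrArg (fun x : K => x.1 wU) h))
  obtain ⟨u0, hu0⟩ : ∃ u0 : U, zU u0 = wU :=
    (Finite.injective_iff_surjective (f := (zU : U → U))).mp
      (fun x y h => sub_eq_zero.mp (hzinj _ (by rw [map_sub, h, sub_self]))) wU
  have hAw : AU wU = 0 := Subtype.ext (by show AQ (q w1) = 0; rw [hAQ, hAw1, map_zero])
  have hAu0 : AU u0 = 0 := hzinj _ (by rw [← end_mul_apply, hcA.eq, end_mul_apply, hu0, hAw])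
  let e1 : U := BU u0
  have hAe1 : AU e1 = wU := by
    rw [← hu0, show zU u0 = AU (BU u0) + BU (AU u0) from rfl, hAu0, map_zero, add_zero]
  have hBe0 : BU wU = μ.1 e1 := by
    rw [← hu0, ← end_mul_apply, ← hcB.eq]; rfl
  have hBe1 : BU e1 = 0 := Subtype.ext (hBQQ _)
  let φ : (Fin 2 → K) →+ U :=
    { toFun := fun v => (v 0).1 wU + (v 1).1 e1
      map_zero' := by simp
      map_add' := fun v w => by
        simp only [Pi.add_apply, Subring.coe_add, end_add_apply]; abel }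
  have hAφ : ∀ v, AU (φ v) = φ ![v 1, 0] := fun v => by
    show AU ((v 0).1 wU + (v 1).1 e1) = (v 1).1 wU + (0 : K).1 e1
    rw [map_add, ← end_mul_apply AU, ← (hK _ (v 0).2).1.eq, end_mul_apply, hAw, map_zero,
      ← end_mul_apply AU, ← (hK _ (v 1).2).1.eq, end_mul_apply, hAe1]
    simp
  have hBφ : ∀ v, BU (φ v) = φ ![0, μ * v 0] := fun v => by
    show BU ((v 0).1 wU + (v 1).1 e1) = (0 : K).1 wU + (μ * v 0).1 e1
    rw [map_add, ← end_mul_apply BU, ← (hK _ (v 0).2).2.eq, end_mul_apply, hBe0,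
      ← end_mul_apply BU, ← (hK _ (v 1).2).2.eq, end_mul_apply, hBe1, mul_comm μ]
    simp
  -- the induced action on the plane
  let ρQ : H → AddMonoid.End (V ⧸ N') := fun h => QuotientAddGroup.map N' N' (ρ h : V →+ V) (hPN h)
  have hρQ : ∀ h v, ρQ h (q v) = q (ρ h v) := fun _ _ => rfl
  let ι : (Fin 2 → K) →+ (V ⧸ N') := U.subtype.comp φ
  let HS : Subgroup (SL K) :=
    { carrier := {M | ∃ h : H, ∀ v, ρQ h (ι v) = ι (M.1 *ᵥ v)}
      one_mem' := ⟨1, fun v => by
        obtain ⟨x, hx⟩ := hqs (ι v)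
        rw [← hx, hρQ, map_one, end_one_apply, hx]; simp⟩
      mul_mem' := by
        rintro M M' ⟨h, hh⟩ ⟨h', hh'⟩
        refine ⟨h * h', fun v => ?_⟩
        obtain ⟨x, hx⟩ := hqs (ι v)
        rw [← hx, hρQ, map_mul, end_mul_apply, ← hρQ, ← hρQ, hx, hh', hh, Matrix.mulVec_mulVec,
          Matrix.SpecialLinearGroup.coe_mul]
      inv_mem' := by
        rintro M ⟨h, hh⟩
        refine ⟨h⁻¹, fun v => ?_⟩
        obtain ⟨x, hx⟩ := hqs (ι ((M⁻¹ : SL K).1 *ᵥ v))
        have h1 : ρQ h (q x) = ι v := by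
          rw [hx, hh, Matrix.mulVec_mulVec, ← Matrix.SpecialLinearGroup.coe_mul, mul_inv_cancel,
            Matrix.SpecialLinearGroup.coe_one, Matrix.one_mulVec]
        rw [← h1, ← hx, hρQ, hρQ, ← end_mul_apply, ← map_mul, inv_mul_cancel, map_one]
        rfl }
  have hup : up (1 : K) ∈ HS := ⟨a, fun v => by
    obtain ⟨x, hx⟩ := hqs (ι v)
    have h1 : ρQ a (ι v) = ι v + AQ (ι v) := by
      rw [← hx, hρQ, hAQ, ← map_add, hAdef, end_sub_apply, end_one_apply, add_sub_cancel]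
    rw [h1, show AQ (ι v) = ι ![v 1, 0] from congrArg Subtype.val (hAφ v), ← map_add]
    congr 1; funext i; fin_cases i <;> simp [up_coe, Matrix.mulVec, dotProduct, Fin.sum_univ_two]⟩
  have hlow : low μ ∈ HS := ⟨b, fun v => by
    obtain ⟨x, hx⟩ := hqs (ι v)
    have h1 : ρQ b (ι v) = ι v + BQ (ι v) := by
      rw [← hx, hρQ, hBQ, ← map_add, hBdef, end_sub_apply, end_one_apply, add_sub_cancel]
    rw [h1, show BQ (ι v) = ι ![0, μ * v 0] from congrArg Subtype.val (hBφ v), ← map_add]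
    congr 1; funext i; fin_cases i <;> simp [low_coe, Matrix.mulVec, dotProduct, Fin.sum_univ_two] <;> ring⟩
  have : Finite (SL K) := Finite.of_injective (fun M : SL K => fun i j => M.1 i j) fun M M' h =>
    Subtype.ext (Matrix.ext fun i j => congrFun (congrFun h i) j)
  -- a linear form on `K` with value one at one
  let _ : Algebra (ZMod p) K := ZMod.algebra K p
  obtain ⟨lam, hlam⟩ : ∃ lam : K →ₗ[ZMod p] ZMod p, lam 1 = 1 := by
    obtain ⟨f, hf⟩ := Module.Projective.exists_dual_ne_zero (ZMod p) (one_ne_zero : (1 : K) ≠ 0)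
    exact ⟨(f 1)⁻¹ • f, by simp [hf]⟩
  let el : K →+ (V ⧸ N') :=
    { toFun := fun κ => ((κ.1 wU : U) : V ⧸ N')
      map_zero' := by simp
      map_add' := fun x y => by simp [end_add_apply] }
  let Np : AddSubgroup (V ⧸ N') := (LinearMap.ker lam).toAddSubgroup.map el
  let Nfin : AddSubgroup V := Np.comap (q.comp (z ^ N : AddMonoid.End V))
  have hmem : ∀ v, v ∈ Nfin ↔ q ((z ^ N) v) ∈ Np := fun v => Iff.rfl
  have hcK : ∀ (c : ZMod p), algebraMap (ZMod p) K c = ZMod.castHom dvd_rfl K c := fun c =>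
    RingHom.congr_fun (Subsingleton.elim _ _) c
  have hiota : ∀ v : Fin 2 → K, ι v = el (v 0) + (((v 1).1 e1 : U) : V ⧸ N') := fun v => rfl
  obtain ⟨ev, hev'⟩ : ∃ ev : V, q ((z ^ N) ev) = (e1 : V ⧸ N') := by
    obtain ⟨v, ⟨w, rfl⟩, hv⟩ := hUV1 e1.2
    exact ⟨w, hv⟩
  have hqu : q ((z ^ N) u) = el 1 := rfl
  have hAcomm : ∀ v, q ((z ^ N) (ρ a v)) = ρQ a (q ((z ^ N) v)) := fun v => by rw [hzcomm, hρQ]
  have hρadd : ∀ h (x y : V ⧸ N'), ρQ h (x + y) = ρQ h x + ρQ h y := fun h x y => map_add _ _ _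
  have hρa : ∀ κ : K, ρQ a (el κ) = el κ := fun κ => by
    obtain ⟨x, hx⟩ := hqs (el κ)
    have hA0 : AQ (el κ) = 0 := by
      have := congrArg Subtype.val (hAφ ![κ, 0])
      simp [φ] at this
      show AQ ((κ.1 wU : U) : V ⧸ N') = 0
      exact congrArg Subtype.val (show AU (κ.1 wU) = 0 from this)
    rw [← hx, hAQ] at hA0
    rw [← hx, hρQ, show ρ a x = x + A x by rw [hAdef, end_sub_apply, end_one_apply, add_sub_cancel],
      map_add, hA0, add_zero]
  refine ⟨Nfin, ev, ?_, ?_, ?_, ?_, ?_⟩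
  · rw [hmem, hqu]
    rintro ⟨κ, hκ, he⟩
    have hκ1 : κ = 1 := by
      by_contra h1
      refine hwU (hinj (κ - 1) (sub_ne_zero.mpr h1) _ (Subtype.ext ?_))
      show ((κ.1 wU - (1 : AddMonoid.End U) wU : U) : V ⧸ N') = 0
      rw [AddSubgroup.coe_sub, sub_eq_zero]
      exact he
    subst hκ1
    have : lam 1 = 0 := hκ
    rw [hlam] at this
    exact one_ne_zero this
  · intro v hv
    rw [hmem, hAcomm]
    obtain ⟨κ, hκ, he⟩ := (hmem v).mp hv
    rw [← he, hρa]
    exact ⟨κ, hκ, rfl⟩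
  · rw [hmem, map_sub, map_sub, hAcomm, hqu, hρa, sub_self]; exact zero_mem _
  · rw [hmem, map_sub, map_sub, map_add, map_add, hAcomm, hev', hqu]
    obtain ⟨x, hx⟩ := hqs (e1 : V ⧸ N')
    have h1 : ρQ a (e1 : V ⧸ N') = (e1 : V ⧸ N') + el 1 := by
      have hA1 : AQ (e1 : V ⧸ N') = el 1 := congrArg Subtype.val hAe1
      rw [← hx, hAQ] at hA1
      rw [← hx, hρQ, show ρ a x = x + A x by rw [hAdef, end_sub_apply, end_one_apply, add_sub_cancel],
        map_add, hA1]
    rw [h1, sub_self]; exact zero_mem _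
  · intro i j hij
    have hij' : (i : ZMod p) * (j : ZMod p) = 1 := by
      rw [← Nat.cast_mul, ← Nat.cast_one]; exact (ZMod.natCast_eq_natCast_iff _ _ p).mpr hij
    obtain ⟨M, ⟨h, hh⟩, hM10, hM00, hM11⟩ := exists_upper_mem (p := p) hp HS hup hμ hlow hij'
    rw [map_natCast] at hM00 hM11
    have hhel : ∀ κ : K, ρQ h (el κ) = el (i • κ) := fun κ => by
      have h0 := hh ![κ, 0]
      rw [hiota, hiota] at h0
      simpa [Matrix.mulVec, dotProduct, Fin.sum_univ_two, hM00, hM10, nsmul_eq_mul] using h0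
    have hNinv : ∀ v ∈ Nfin, ρ h v ∈ Nfin := fun v hv => by
      obtain ⟨κ, hκ, he⟩ := (hmem v).mp hv
      rw [hmem, hzcomm, ← hρQ, ← he, hhel]
      refine ⟨i • κ, ?_, rfl⟩
      show lam (i • κ) = 0
      rw [map_nsmul, show lam κ = 0 from hκ, nsmul_zero]
    refine ⟨h, hNinv, ?_, (lam (M 0 1)).val, ?_⟩
    · rw [hmem, map_sub, map_sub, hzcomm, ← hρQ, hqu, hhel, map_nsmul, map_nsmul, map_nsmul, hqu, sub_self]
      exact zero_mem _
    · have h1 : ρQ h (e1 : V ⧸ N') = el (M 0 1) + j • (e1 : V ⧸ N') := by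
        have h0 := hh ![0, 1]
        rw [hiota, hiota] at h0
        have e11 : ((j : K) : AddMonoid.End U) e1 = j • e1 := by
          rw [SubringClass.coe_natCast, AddMonoid.End.natCast_apply]
        simpa [Matrix.mulVec, dotProduct, Fin.sum_univ_two, hM11, e11] using h0
      rw [hmem, map_sub, map_sub, hzcomm, ← hρQ, hev', h1, map_add, map_add, map_nsmul, map_nsmul,
        map_nsmul, map_nsmul, hev', hqu, ← map_nsmul el]
      rw [show el (M 0 1) + j • (e1 : V ⧸ N') - (j • (e1 : V ⧸ N') + el ((lam (M 0 1)).val • 1))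
        = el (M 0 1 - (lam (M 0 1)).val • 1) by rw [map_sub]; abel]
      refine ⟨_, ?_, rfl⟩
      show lam (M 0 1 - (lam (M 0 1)).val • 1) = 0
      rw [map_sub, map_nsmul, hlam, nsmul_one, ZMod.natCast_zmod_val, sub_self]

end Cfsg.Agent.H1.Glauberman
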