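import Mathlib
import Cfsg.Agent.Thompson.ZJFusion
import Cfsg.Agent.H1.Glauberman.Eigen

/-!
The conclusion as a property of `W = Z(J(S))`; the key local lemma: a `p`-group containing two
conjugates of `W` with a common non-central element forces them to be equal.
-/

set_option autoImplicit false

namespace Cfsg.Agent.H1.Glauberman

open Subgroup Cfsg.Agent.Thompson
open H48 (cj limg IsSylowIn cj_le cj_mono cj_cj cj_one card_cj cj_inv_cj cj_cj_inv mem_cj conj_mem_cj
  cj_eq_of_mem_normalizer mem_normalizer_of_cj_eq cj_eq_self_of_le isPGroup_cj)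

universe u

variable {p : ℕ}

/-- the conclusion of Glauberman's theorem -/
def Concl (p : ℕ) {G : Type u} [Group G] [Fact p.Prime] (W : Subgroup G) : Prop :=
  HasSection (fOver (ZMod p)) (normalizer (W : Set G)) ∧
    ∃ c ∈ W, orderOf c = p ∧ ∃ h ∈ normalizer (W : Set G), ∃ n, IsPrimitive p n ∧ h * c * h⁻¹ = c ^ n

theorem Concl.map [Fact p.Prime] {G H : Type u} [Group G] [Group H] {W : Subgroup G} (hc : Concl p W)
    (f : G →* H) (hf : Function.Injective f) : Concl p (W.map f) := by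
  obtain ⟨hsec, c, hc, hco, h, hh, n, hn, he⟩ := hc
  have hle : (normalizer (W : Set G)).map f ≤ normalizer (W.map f : Set H) := W.le_normalizer_map f
  refine ⟨?_, f c, mem_map_of_mem f hc, by rw [orderOf_injective f hf, hco], f h, hle (mem_map_of_mem f hh), n, hn,
    by rw [← map_inv, ← map_mul, ← map_mul, he, map_pow]⟩
  refine HasSection.of_injective (f := (inclusion hle).comp ((normalizer (W : Set G)).equivMapOfInjective f hf).toMonoidHom) ?_ hsec
  exact (inclusion_injective hle).comp ((normalizer (W : Set G)).equivMapOfInjective f hf).injective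

theorem Concl.conj [Fact p.Prime] {G : Type u} [Group G] {W : Subgroup G} {g : G} (hc : Concl p (cj g W)) :
    Concl p W := by
  have h := hc.map (MulAut.conj g⁻¹).toMonoidHom (MulAut.conj g⁻¹).injective
  rwa [show (cj g W).map (MulAut.conj g⁻¹).toMonoidHom = W from cj_inv_cj g W] at h

variable {G : Type u} [Group G]

/-- the fusion of `S` is not controlled by the normalizer of `Z(J(S))` -/
def Fails (S : Subgroup G) : Prop :=
  ∃ (A : Set G) (g : G), A ⊆ S ∧ limg A g ⊆ S ∧
    ¬ ∃ n ∈ normalizer (zjay 0 S : Set G), ∀ a ∈ A, n * a * n⁻¹ = g * a * g⁻¹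

/-- the standing situation of a counterexample -/
structure Ctx (p : ℕ) [Fact p.Prime] (S : Sylow p G) : Prop where
  odd : p ≠ 2
  no : ¬ Concl p (zjay 0 (S : Subgroup G))
  ih : ∀ M : Subgroup G, M ≠ ⊤ → ∀ T : Sylow p M, Fails (T : Subgroup M) → Concl p (zjay 0 (T : Subgroup M))

variable [Finite G] [Fact p.Prime] {S : Sylow p G}

omit [Finite G] in
theorem zjay_cj (g : G) (P : Subgroup G) : zjay 0 (cj g P) = cj g (zjay 0 P) :=
  zjay_map _ (MulAut.conj g).injective

omit [Finite G] in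
theorem jay_cj (g : G) (P : Subgroup G) : jay 0 (cj g P) = cj g (jay 0 P) :=
  jay_map _ (MulAut.conj g).injective

/-- the Thompson subgroup of a Sylow subgroup is determined by any `p`-group containing it -/
theorem jay_eq_of_jay_le {T : Subgroup G} (hT : IsPGroup p T) (h : jay 0 (S : Subgroup G) ≤ T) :
    jay 0 T = jay 0 (S : Subgroup G) := by
  obtain ⟨S', hS'⟩ := hT.exists_le_sylow
  obtain ⟨g, hg⟩ := MulAction.exists_smul_eq G S S'
  have hS'g : (S' : Subgroup G) = cj g (S : Subgroup G) := by rw [← hg, Sylow.coe_subgroup_smul]; rfl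
  have hle : jay 0 (S : Subgroup G) ≤ jay 0 (S' : Subgroup G) := by
    refine sSup_le fun A hA => le_jay ?_
    obtain ⟨A0, hA0⟩ := maxIn_nonempty 0 (S' : Subgroup G)
    have hm : cj g A ∈ maxIn 0 (S' : Subgroup G) := by
      rw [hS'g, cj, maxIn_map _ (MulAut.conj g).injective]; exact ⟨A, hA, rfl⟩
    exact mem_maxIn_of_card_eq hm ((le_jay hA).trans (h.trans hS')) hA.2.1 (card_cj g A).symm
  have heq : jay 0 (S' : Subgroup G) = jay 0 (S : Subgroup G) := by
    refine (Subgroup.eq_of_le_of_card_ge hle ?_).symm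
    rw [hS'g, jay_cj, card_cj]
  rw [← heq]
  exact jay_eq_of_le (heq.le.trans h) hS'

theorem Ctx.fuse (hc : Ctx p S) {M T : Subgroup G} (hM : M ≠ ⊤) (hT : IsSylowIn p T M) {g : G}
    (hW : zjay 0 T = cj g (zjay 0 (S : Subgroup G))) {A : Set G} {x : G} (hx : x ∈ M) (hA : A ⊆ T)
    (hAx : limg A x ⊆ T) :
    ∃ n ∈ normalizer (zjay 0 T : Set G), n ∈ M ∧ ∀ a ∈ A, n * a * n⁻¹ = x * a * x⁻¹ := by
  have hmap : (zjay 0 (hT.toSylow : Subgroup M)).map M.subtype = zjay 0 T := by
    rw [← zjay_map _ M.subtype_injective, hT.coe_toSylow, subgroupOf_map_subtype, inf_eq_left.mpr hT.le]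
  obtain ⟨n, hn, hna⟩ : ∃ n ∈ normalizer (zjay 0 (hT.toSylow : Subgroup M) : Set M),
      ∀ a ∈ {a : M | (a : G) ∈ A}, n * a * n⁻¹ = ⟨x, hx⟩ * a * ⟨x, hx⟩⁻¹ := by
    by_contra hno
    have hf : Fails (hT.toSylow : Subgroup M) := ⟨{a : M | (a : G) ∈ A}, ⟨x, hx⟩, fun a ha => hA ha, by
      rintro _ ⟨a, ha, rfl⟩
      exact hAx ⟨a, ha, rfl⟩, hno⟩
    have h := (hc.ih M hM hT.toSylow hf).map M.subtype M.subtype_injective
    rw [hmap, hW] at h
    exact hc.no h.conj
  refine ⟨n, ?_, n.2, fun a ha => congrArg Subtype.val (hna ⟨a, hT.le (hA ha)⟩ ha)⟩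
  have h := le_normalizer_map (H := zjay 0 (hT.toSylow : Subgroup M)) M.subtype (mem_map_of_mem _ hn)
  rwa [hmap] at h

/-- the local lemma -/
theorem Ctx.loc_base (hc : Ctx p S) {y : G} (hy : y ∈ zjay 0 (S : Subgroup G)) (hyc : y ∉ center G)
    {T : Subgroup G} (hT : IsSylowIn p T (centralizer {y})) (hWT : zjay 0 (S : Subgroup G) ≤ T) :
    zjay 0 T = zjay 0 (S : Subgroup G) := by
  have hM : centralizer ({y} : Set G) ≠ ⊤ := fun h => hyc (mem_center_iff.mpr fun x => by
    have := mem_centralizer_singleton_iff.mp (h.ge (mem_top x))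
    exact this)
  have hJC : jay 0 (S : Subgroup G) ≤ centralizer ({y} : Set G) := fun j hj =>
    mem_centralizer_singleton_iff.mpr (mem_centralizer_iff.mp hy.2 j hj)
  obtain ⟨T0, hT0, hJT0⟩ := H48.exists_isSylowIn_ge (S.isPGroup'.to_le jay_le) hJC
  have hW0 : zjay 0 T0 = zjay 0 (S : Subgroup G) := by
    rw [zjay, zjay, jay_eq_of_jay_le hT0.isPGroup hJT0]
  obtain ⟨c, hc', hcT⟩ := hT0.exists_conj hT
  have hW : zjay 0 T = cj c (zjay 0 (S : Subgroup G)) := by rw [← hcT, zjay_cj, hW0]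
  have hsub : limg (zjay 0 (S : Subgroup G) : Set G) c ⊆ T := by
    rw [H48.limg_coe, ← hW]; exact fun x hx => zjay_le hx
  obtain ⟨n, hn, -, hna⟩ := hc.fuse hM hT hW hc' (fun x hx => hWT hx) hsub
  have h1 : cj n (zjay 0 (S : Subgroup G)) = zjay 0 T := by
    rw [hW]
    refine SetLike.coe_injective ?_
    rw [← H48.limg_coe, ← H48.limg_coe]
    exact H48.limg_congr hna
  calc zjay 0 T = cj n⁻¹ (cj n (zjay 0 T)) := (cj_inv_cj n _).symm
    _ = cj n⁻¹ (cj n (zjay 0 (S : Subgroup G))) := by rw [cj_eq_of_mem_normalizer hn, h1]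
    _ = _ := cj_inv_cj n _

theorem Ctx.loc (hc : Ctx p S) {y g : G} (hy : y ∈ cj g (zjay 0 (S : Subgroup G))) (hyc : y ∉ center G)
    {T : Subgroup G} (hT : IsSylowIn p T (centralizer {y}))
    (hWT : cj g (zjay 0 (S : Subgroup G)) ≤ T) : zjay 0 T = cj g (zjay 0 (S : Subgroup G)) := by
  have hcent : cj g⁻¹ (centralizer ({y} : Set G)) = centralizer {g⁻¹ * y * g} := by
    ext x
    rw [mem_cj, mem_centralizer_singleton_iff, mem_centralizer_singleton_iff, inv_inv]
    constructor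
    · intro h
      calc x * (g⁻¹ * y * g) = g⁻¹ * (g * x * g⁻¹ * y) * g := by group
        _ = _ := by rw [h]; group
    · intro h
      calc g * x * g⁻¹ * y = g * (x * (g⁻¹ * y * g)) * g⁻¹ := by group
        _ = _ := by rw [h]; group
  have h1 := hc.loc_base (T := cj g⁻¹ T) (mem_cj.mp hy) (fun hz => hyc (by
      have := Normal.conj_mem (inferInstance : (center G).Normal) _ hz g
      simpa [mul_assoc] using this))
    (hcent ▸ hT.cj g⁻¹) (by
      have := cj_mono (g := g⁻¹) hWT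
      rwa [cj_inv_cj] at this)
  rw [← h1, zjay_cj, cj_cj_inv]

omit [Fact p.Prime] in
theorem cj_zjay_le_centralizer {y k : G} (hk : y ∈ cj k (zjay 0 (S : Subgroup G))) :
    cj k (zjay 0 (S : Subgroup G)) ≤ centralizer {y} := fun x hx => by
  rw [mem_centralizer_singleton_iff]
  rw [← zjay_cj] at hk hx
  exact zjay_comm hx hk

/-- two conjugates of `Z(J(S))` in a `p`-group meet in the centre, unless they are equal -/
theorem Ctx.ti (hc : Ctx p S) {y g g' : G} {P : Subgroup G} (hP : IsPGroup p P)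
    (hg : cj g (zjay 0 (S : Subgroup G)) ≤ P) (hg' : cj g' (zjay 0 (S : Subgroup G)) ≤ P)
    (hy : y ∈ cj g (zjay 0 (S : Subgroup G))) (hy' : y ∈ cj g' (zjay 0 (S : Subgroup G)))
    (hyc : y ∉ center G) : cj g (zjay 0 (S : Subgroup G)) = cj g' (zjay 0 (S : Subgroup G)) := by
  obtain ⟨T, hT, hPT⟩ := H48.exists_isSylowIn_ge (hP.to_le (sup_le hg hg'))
    (sup_le (cj_zjay_le_centralizer hy) (cj_zjay_le_centralizer hy'))
  rw [← hc.loc hy hyc hT (le_sup_left.trans hPT), hc.loc hy' hyc hT (le_sup_right.trans hPT)]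

/-- a large abelian subgroup meeting a conjugate of `Z(J(S))` outside the centre contains it -/
theorem Ctx.loc_mem (hc : Ctx p S) {y g : G} {A P : Subgroup G} (hA : A ∈ maxIn 0 (S : Subgroup G))
    (hP : IsPGroup p P) (hAP : A ≤ P) (hgP : cj g (zjay 0 (S : Subgroup G)) ≤ P)
    (hyA : y ∈ A) (hy : y ∈ cj g (zjay 0 (S : Subgroup G))) (hyc : y ∉ center G) :
    cj g (zjay 0 (S : Subgroup G)) ≤ A := by
  have hAy : A ≤ centralizer {y} := fun x hx => mem_centralizer_singleton_iff.mpr (hA.2.1.comm hx hyA)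
  obtain ⟨T, hT, hPT⟩ := H48.exists_isSylowIn_ge (hP.to_le (sup_le hgP hAP))
    (sup_le (cj_zjay_le_centralizer hy) hAy)
  rw [← hc.loc hy hyc hT (le_sup_left.trans hPT)]
  refine zjay_zero_le ⟨le_sup_right.trans hPT, hA.2.1, fun B hB hB' => ?_⟩
  obtain ⟨k, -, hk⟩ := (H48.isSylowIn_sylow S).exists_cj_le (hT.isPGroup.to_le hB) le_top
  rw [← card_cj k B]
  exact hA.2.2 _ hk ((isAbExp_map_iff _ (MulAut.conj k).injective).mpr hB')

end Cfsg.Agent.H1.Glauberman
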