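import Cfsg.Agent.H1.Glauberman.CaseOne
import Cfsg.Agent.H1.Glauberman.CaseTwo

/-!
Glauberman's theorem on the failure of `Z(J(S))` to control fusion.
-/

set_option autoImplicit false

namespace Cfsg.Agent.H1.Glauberman

open Subgroup Cfsg.Agent.Thompson

universe u

theorem concl_of_fails {p : ℕ} [Fact p.Prime] (hp : p ≠ 2) :
    ∀ (n : ℕ) (G : Type u) [Group G] [Finite G], Nat.card G ≤ n → ∀ S : Sylow p G,
      Fails (S : Subgroup G) → Concl p (zjay 0 (S : Subgroup G)) := by
  intro n
  induction n with
  | zero => intro G _ _ hc; exact absurd hc (Nat.not_le.mpr Nat.card_pos)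
  | succ n ih =>
    intro G _ _ hcard S hF
    by_contra hno
    have hc : Ctx p S := ⟨hp, hno, fun M hM T hT => ih M (by
      have : Nat.card M < Nat.card G :=
        lt_of_le_of_ne (card_le_card_group M) fun h => hM (eq_top_of_card_eq M h)
      omega) T hT⟩
    exact false_of_unique hc (fun _ hg => conj_eq_of_le hc hg) hF

end Cfsg.Agent.H1.Glauberman
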