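import Mathlib
import Cfsg.Prelude.Def_LocalEven
import Cfsg.Agent.Thompson.Qd

/-!
A group acting on a plane by all upper triangular matrices of determinant one yields a section `F(p)`;
`F(p)` has no non-trivial normal `p'`-subgroup.
-/

set_option autoImplicit false

namespace Cfsg.Agent.H1.Glauberman

open Subgroup Matrix Cfsg.Agent.Thompson

universe u

local notation "SL" => Matrix.SpecialLinearGroup (Fin 2)

variable {p : ℕ}

theorem affMat_mem_fOver [Fact p.Prime] {A : SL (ZMod p)} (hA : A 1 0 = 0) (v : Fin 2 → ZMod p) :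
    affMat A v ∈ fOver (ZMod p) := by
  refine subset_closure ⟨?_, ?_, ?_, ?_⟩ <;> simp [affMat, hA]

theorem mem_fOver_iff [Fact p.Prime] {M : Matrix.SpecialLinearGroup (Fin 3) (ZMod p)} :
    M ∈ fOver (ZMod p) ↔ ∃ A v, A 1 0 = 0 ∧ affMat A v = M := by
  refine ⟨fun h => ?_, fun ⟨A, v, hA, h⟩ => h ▸ affMat_mem_fOver hA v⟩
  induction h using closure_induction with
  | mem x hx =>
    obtain ⟨A, v, rfl⟩ := exists_affMat_eq hx.2.1 hx.2.2.1 hx.2.2.2
    refine ⟨A, v, ?_, rfl⟩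
    have := hx.1
    simpa [affMat] using this
  | one =>
    refine ⟨1, 0, by simp, Subtype.ext ?_⟩
    ext i j; fin_cases i <;> fin_cases j <;> simp [affMat]
  | mul x y _ _ hx hy =>
    obtain ⟨A, v, hA, rfl⟩ := hx
    obtain ⟨B, w, hB, rfl⟩ := hy
    refine ⟨A * B, v + (A : Matrix (Fin 2) (Fin 2) (ZMod p)) *ᵥ w, ?_, (affMat_mul A B v w).symm⟩
    simp [Matrix.mul_apply, Fin.sum_univ_two, hA, hB]
  | inv x _ hx =>
    obtain ⟨A, v, hA, rfl⟩ := hx
    have hA' : (A⁻¹ : SL (ZMod p)) 1 0 = 0 := by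
      rw [sl_inv_apply_10, hA, neg_zero]
    refine ⟨A⁻¹, -((A⁻¹ : SL (ZMod p)) : Matrix (Fin 2) (Fin 2) (ZMod p)) *ᵥ v, hA',
      (eq_inv_of_mul_eq_one_left ?_)⟩
    rw [affMat_mul]
    refine Subtype.ext ?_
    ext i j; fin_cases i <;> fin_cases j <;> simp [affMat, Matrix.neg_mulVec]

/-- `F(p)` has no non-trivial normal `p'`-subgroup -/
theorem fOver_normal_coprime [Fact p.Prime] (R : Subgroup (fOver (ZMod p))) [R.Normal]
    (hR : (Nat.card R).Coprime p) : R = ⊥ := by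
  have hp1 : (1 : SL (ZMod p)) 1 0 = 0 := by simp
  have hdo : ∀ x ∈ R, x ^ p = 1 → x = 1 := fun x hx hxp => by
    refine orderOf_eq_one_iff.mp (Nat.eq_one_of_dvd_coprimes hR (Subgroup.orderOf_dvd_natCard R hx) ?_)
    exact orderOf_dvd_of_pow_eq_one hxp
  have htr : ∀ (v : Fin 2 → ZMod p) (n : ℕ), affMat (1 : SL (ZMod p)) v ^ n = affMat 1 ((n : ZMod p) • v) := by
    intro v n
    induction n with
    | zero =>
      rw [pow_zero, Nat.cast_zero, zero_smul]
      refine Subtype.ext ?_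
      ext i j; fin_cases i <;> fin_cases j <;> simp [affMat]
    | succ n ih =>
      rw [pow_succ, ih, affMat_mul, one_mul, Nat.cast_succ, add_smul, one_smul]
      simp
  have hzero : affMat (1 : SL (ZMod p)) 0 = 1 := by
    refine Subtype.ext ?_
    ext i j; fin_cases i <;> fin_cases j <;> simp [affMat]
  refine (eq_bot_iff_forall _).mpr fun x hx => ?_
  obtain ⟨A, w, hA, hAw⟩ := mem_fOver_iff.mp x.2
  have hA1 : A = 1 := by
    have key : ∀ v, (A : Matrix (Fin 2) (Fin 2) (ZMod p)) *ᵥ v = v := by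
      intro v
      set t : fOver (ZMod p) := ⟨affMat 1 v, affMat_mem_fOver hp1 v⟩
      set y : fOver (ZMod p) := x * t * x⁻¹ * t⁻¹
      have hy : y ∈ R := by
        have h := mul_mem hx (Normal.conj_mem ‹R.Normal› _ (R.inv_mem hx) t)
        simpa [y, mul_assoc] using h
      have hy' : ∃ v', (y : Matrix.SpecialLinearGroup (Fin 3) (ZMod p)) = affMat 1 v' := by
        have hinv : (affMat A w)⁻¹ = affMat A⁻¹ (-((A⁻¹ : SL (ZMod p)) : Matrix (Fin 2) (Fin 2) (ZMod p)) *ᵥ w) := by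
          refine inv_eq_of_mul_eq_one_left ?_
          rw [affMat_mul, inv_mul_cancel, ← hzero]; congr 1; simp [Matrix.neg_mulVec]
        have hinvt : (affMat (1 : SL (ZMod p)) v)⁻¹ = affMat 1 (-v) := by
          refine inv_eq_of_mul_eq_one_left ?_
          rw [affMat_mul, one_mul, ← hzero]; congr 1; simp
        refine ⟨w + (A : Matrix (Fin 2) (Fin 2) (ZMod p)) *ᵥ v +
          (A * 1 : SL (ZMod p)).1 *ᵥ (-((A⁻¹ : SL (ZMod p)) : Matrix (Fin 2) (Fin 2) (ZMod p)) *ᵥ w) +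
          (A * 1 * A⁻¹ : SL (ZMod p)).1 *ᵥ (-v), ?_⟩
        show (x : Matrix.SpecialLinearGroup (Fin 3) (ZMod p)) * affMat 1 v * (x : Matrix.SpecialLinearGroup (Fin 3) (ZMod p))⁻¹ * (affMat 1 v)⁻¹ = _
        rw [← hAw, hinv, hinvt, affMat_mul, affMat_mul, affMat_mul]
        congr 1
        simp
      obtain ⟨v', hv'⟩ := hy'
      have hy1 : y = 1 := hdo y hy (Subtype.ext (by
        rw [SubgroupClass.coe_pow, hv', htr, ZMod.natCast_self, zero_smul, hzero]; rfl))
      have hc : x * t = t * x := by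
        have h := hy1
        simp only [y, mul_inv_eq_one] at h
        exact mul_inv_eq_iff_eq_mul.mp h
      have h : affMat A w * affMat 1 v = affMat 1 v * affMat A w := by
        rw [hAw]; exact congrArg Subtype.val hc
      rw [affMat_mul, affMat_mul] at h
      funext i
      have hi := congrArg (fun m : Matrix.SpecialLinearGroup (Fin 3) (ZMod p) => (m 0 2, m 1 2)) h
      simp [affMat] at hi
      fin_cases i <;> simp [Matrix.mulVec, dotProduct, Fin.sum_univ_two]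
      · linear_combination hi.1
      · linear_combination hi.2
    refine Subtype.ext (Matrix.ext_iff_mulVec.mpr fun v => ?_)
    rw [key]; simp
  subst hA1
  exact hdo x hx (Subtype.ext (by
    rw [SubgroupClass.coe_pow, ← hAw, htr, ZMod.natCast_self, zero_smul, hzero]; rfl))

variable {G : Type u} [Group G]

theorem hasSection_quotient_coprime [Fact p.Prime] [Finite G] (O : Subgroup G) [O.Normal]
    (hO : (Nat.card O).Coprime p) (h : HasSection (fOver (ZMod p)) G) :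
    HasSection (fOver (ZMod p)) (G ⧸ O) := by
  obtain ⟨K, φ, hφ⟩ := h
  set R := (O.subgroupOf K).map φ with hR
  have : R.Normal := Normal.map inferInstance φ hφ
  have hRc : (Nat.card R).Coprime p := by
    refine Nat.Coprime.coprime_dvd_left ((O.subgroupOf K).card_map_dvd φ) ?_
    refine Nat.Coprime.coprime_dvd_left ?_ hO
    exact card_comap_dvd_of_injective O K.subtype K.subtype_injective
  have hker : ((QuotientGroup.mk' O).subgroupMap K).ker ≤ φ.ker := by
    intro x hx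
    have hxO : (x : G) ∈ O := (QuotientGroup.eq_one_iff _).mp (congrArg Subtype.val (MonoidHom.mem_ker.mp hx))
    have := fOver_normal_coprime R hRc
    exact MonoidHom.mem_ker.mpr (mem_bot.mp (this ▸ mem_map_of_mem φ (K := O.subgroupOf K) hxO))
  refine ⟨K.map (QuotientGroup.mk' O), MonoidHom.liftOfSurjective _ (MonoidHom.subgroupMap_surjective _ K)
    ⟨φ, hker⟩, fun y => ?_⟩
  obtain ⟨x, rfl⟩ := hφ y
  exact ⟨_, MonoidHom.liftOfRightInverse_comp_apply _ _ _ ⟨φ, hker⟩ x⟩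

/-- a plane with a group inducing all upper triangular matrices -/
theorem hasSection_fOver [Finite G] [Fact p.Prime] (hp : p ≠ 2) (M : Subgroup G) (φ : M →* SL (ZMod p))
    (htri : ∀ m, φ m 1 0 = 0) (hsurj : ∀ X : SL (ZMod p), X 1 0 = 0 → ∃ m, φ m = X)
    (f : Multiplicative (Fin 2 → ZMod p) →* G) (hf : Function.Injective f)
    (hconj : ∀ (m : M) (v : Fin 2 → ZMod p), (m : G) * f (Multiplicative.ofAdd v) * (m : G)⁻¹ =
      f (Multiplicative.ofAdd ((φ m : Matrix (Fin 2) (Fin 2) (ZMod p)) *ᵥ v))) :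
    HasSection (fOver (ZMod p)) G := by
  have hneg : ((-1 : SL (ZMod p)) : Matrix (Fin 2) (Fin 2) (ZMod p)) = -1 := by
    rw [Matrix.SpecialLinearGroup.coe_neg, Matrix.SpecialLinearGroup.coe_one]
  set C2 := (zpowers (-1 : SL (ZMod p))).comap φ with hC2
  have : C2.Normal := by
    refine ⟨fun m hm g => ?_⟩
    obtain ⟨k, hk⟩ := hm
    refine ⟨k, ?_⟩
    simp only at hk ⊢
    rw [map_mul, map_mul, map_inv, ← hk]
    have hc : Commute (φ g) (-1 : SL (ZMod p)) := (Commute.one_right _).neg_right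
    rw [(hc.zpow_right k).eq, mul_inv_cancel_right]
  let T : Sylow 2 C2 := default
  set N := normalizer (((T : Subgroup C2).map C2.subtype : Subgroup M) : Set M) with hN
  have hfr : N ⊔ C2 = ⊤ := Sylow.normalizer_sup_eq_top T
  obtain ⟨t, htT, ht⟩ : ∃ t : M, t ∈ (T : Subgroup C2).map C2.subtype ∧ φ t = -1 := by
    let ψ : C2 →* zpowers (-1 : SL (ZMod p)) := φ.subgroupComap _
    have hψ : Function.Surjective ψ := fun ⟨z, hz⟩ => by
      obtain ⟨k, rfl⟩ := hz
      obtain ⟨m, hm⟩ := hsurj (-1) (by simp)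
      refine ⟨⟨m ^ k, k, by simp [hm]⟩, Subtype.ext ?_⟩
      show φ (m ^ k) = _
      rw [map_zpow, hm]
    have h2 : IsPGroup 2 (zpowers (-1 : SL (ZMod p))) := by
      rintro ⟨_, k, rfl⟩
      refine ⟨1, Subtype.ext ?_⟩
      show ((-1 : SL (ZMod p)) ^ k) ^ (2 ^ 1) = 1
      rw [← zpow_natCast, ← _root_.zpow_mul, mul_comm, _root_.zpow_mul]
      norm_num [neg_one_mul]
    have htop : (T.mapSurjective hψ : Subgroup (zpowers (-1 : SL (ZMod p)))) = ⊤ :=
      ((T.mapSurjective hψ).is_maximal' (h2.to_subgroup ⊤) le_top).symm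
    rw [Sylow.coe_mapSurjective] at htop
    obtain ⟨t, ht, hte⟩ := htop.ge (mem_top ⟨-1, mem_zpowers _⟩)
    exact ⟨t, ⟨t, ht, rfl⟩, congrArg Subtype.val hte⟩
  have hNsurj : ∀ X : SL (ZMod p), X 1 0 = 0 → ∃ n : M, n ∈ N ∧ φ n = X := by
    intro X hX
    obtain ⟨m, rfl⟩ := hsurj X hX
    have hm : m ∈ ((N ⊔ C2 : Subgroup M) : Set M) := by rw [hfr]; exact mem_top m
    rw [Subgroup.mul_normal] at hm
    obtain ⟨n, hn, c, hc, rfl⟩ := hm
    obtain ⟨k, hk⟩ := hc
    refine ⟨n * t ^ k, mul_mem hn (N.zpow_mem (le_normalizer htT) k), ?_⟩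
    simp only at hk
    rw [map_mul, map_mul, map_zpow, ht, hk]
  have hWN : ∀ (n : M), n ∈ N → ∀ v, (n : G) = f (Multiplicative.ofAdd v) → v = 0 := by
    intro n hn v hv
    have h1 : t * n * t⁻¹ * n⁻¹ ∈ (T : Subgroup C2).map C2.subtype := by
      rw [mul_assoc t, mul_assoc t]
      exact mul_mem htT ((Subgroup.mem_normalizer_iff.mp hn _).mp (Subgroup.inv_mem _ htT))
    have h2 : ((t * n * t⁻¹ * n⁻¹ : M) : G) = f (Multiplicative.ofAdd (-v - v)) := by
      simp only [Subgroup.coe_mul, Subgroup.coe_inv]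
      rw [hv, hconj, ht, hneg, ← map_inv, ← map_mul]
      congr 1
      rw [Matrix.neg_mulVec, Matrix.one_mulVec, sub_eq_add_neg, ofAdd_add]
      rfl
    obtain ⟨k, hk⟩ := (T.isPGroup'.map C2.subtype) ⟨_, h1⟩
    have hk' : (((t * n * t⁻¹ * n⁻¹ : M) ^ 2 ^ k : M) : G) = ((1 : M) : G) :=
      congrArg Subtype.val (congrArg Subtype.val hk)
    simp only [SubmonoidClass.coe_pow, OneMemClass.coe_one] at hk'
    rw [h2, ← map_pow, map_eq_one_iff f hf, ← ofAdd_nsmul] at hk'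
    have h3 : (2 : ℕ) ^ k • (-v - v) = 0 := hk'
    have h22 : ((2 : ℕ) : ZMod p) ≠ 0 := by
      rw [Ne, ZMod.natCast_eq_zero_iff]
      exact fun h => hp ((Nat.prime_dvd_prime_iff_eq Fact.out Nat.prime_two).mp h)
    funext i
    have h4 := congrFun h3 i
    simp only [Pi.smul_apply, Pi.sub_apply, Pi.neg_apply, nsmul_eq_mul, Pi.zero_apply, Nat.cast_pow] at h4
    have h5 : ((2 : ℕ) : ZMod p) * v i = 0 := by
      have := (mul_eq_zero.mp h4).resolve_left (pow_ne_zero _ h22)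
      linear_combination (norm := (push_cast; ring1)) -this
    exact (mul_eq_zero.mp h5).resolve_left h22
  let X : Subgroup G :=
    { carrier := {g | ∃ (v : Fin 2 → ZMod p) (n : M), n ∈ N ∧ g = f (Multiplicative.ofAdd v) * n}
      one_mem' := ⟨0, 1, one_mem _, by simp⟩
      mul_mem' := by
        rintro _ _ ⟨v, n, hn, rfl⟩ ⟨w, m, hm, rfl⟩
        refine ⟨v + (φ n : Matrix (Fin 2) (Fin 2) (ZMod p)) *ᵥ w, n * m, mul_mem hn hm, ?_⟩
        rw [ofAdd_add, map_mul, ← hconj, Subgroup.coe_mul]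
        group
      inv_mem' := by
        rintro _ ⟨v, n, hn, rfl⟩
        refine ⟨(φ n⁻¹ : Matrix (Fin 2) (Fin 2) (ZMod p)) *ᵥ (-v), n⁻¹, inv_mem hn, ?_⟩
        rw [← hconj, ofAdd_neg, map_inv, Subgroup.coe_inv]
        group }
  choose vOf nOf hnN hdec using fun g : X => g.2
  have huniq : ∀ (g : X) v (n : M), n ∈ N → (g : G) = f (Multiplicative.ofAdd v) * n → vOf g = v ∧ nOf g = n := by
    intro g v n hn hg
    have h : f (Multiplicative.ofAdd (-v + vOf g)) = ((n * (nOf g)⁻¹ : M) : G) := by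
      rw [ofAdd_add, ofAdd_neg, map_mul, map_inv, Subgroup.coe_mul, Subgroup.coe_inv,
        eq_mul_inv_iff_mul_eq, mul_assoc, ← hdec g, inv_mul_eq_iff_eq_mul, hg]
    have h0 := hWN _ (mul_mem hn (inv_mem (hnN g))) _ h.symm
    refine ⟨(neg_add_eq_zero.mp h0).symm, ?_⟩
    rw [h0, ofAdd_zero, map_one] at h
    exact (mul_inv_eq_one.mp (Subtype.ext h.symm)).symm
  let Ψ : X →* fOver (ZMod p) :=
    MonoidHom.mk' (fun g => ⟨affMat (φ (nOf g)) (vOf g), affMat_mem_fOver (htri _) _⟩) fun a b => by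
    obtain ⟨h1, h2⟩ := huniq (a * b) (vOf a + (φ (nOf a) : Matrix (Fin 2) (Fin 2) (ZMod p)) *ᵥ vOf b) (nOf a * nOf b)
      (mul_mem (hnN a) (hnN b)) (by
        rw [Subgroup.coe_mul, hdec a, hdec b, ofAdd_add, map_mul, ← hconj, Subgroup.coe_mul]
        group)
    refine Subtype.ext ?_
    show affMat _ _ = affMat _ _ * affMat _ _
    rw [affMat_mul, h1, h2, map_mul]
  refine ⟨X, Ψ, fun y => ?_⟩
  obtain ⟨A, v, hA, hAv⟩ := mem_fOver_iff.mp y.2
  obtain ⟨n, hn, rfl⟩ := hNsurj A hA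
  refine ⟨⟨f (Multiplicative.ofAdd v) * n, v, n, hn, rfl⟩, Subtype.ext ?_⟩
  obtain ⟨h1, h2⟩ := huniq ⟨f (Multiplicative.ofAdd v) * n, v, n, hn, rfl⟩ v n hn rfl
  show affMat _ _ = _
  rw [h1, h2, hAv]

end Cfsg.Agent.H1.Glauberman
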