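import Mathlib
import Cfsg.Agent.H1.Glauberman.Eigen
import Cfsg.Agent.H1.Glauberman.Section

/-!
From a transvection and an eigen-element on a plane to elements of the controlling subgroup.
-/

set_option autoImplicit false

namespace Cfsg.Agent.H1.Glauberman

open Subgroup Matrix Cfsg.Agent.Thompson
open H48 (cj IsSylowIn cj_le cj_eq_self_of_le mem_normalizer_of_cj_eq cj_eq_of_mem_normalizer)

universe u

local notation "SL" => Matrix.SpecialLinearGroup (Fin 2)

variable {p : ℕ} {G : Type u} [Group G]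

/-- elements of `N(A) ∩ N(B)` that fix every element of `B` modulo `A` -/
def fixMod (A B : Subgroup G) : Subgroup G where
  carrier := {x | x ∈ normalizer (A : Set G) ∧ x ∈ normalizer (B : Set G) ∧ ∀ v ∈ B, x * v * x⁻¹ * v⁻¹ ∈ A}
  one_mem' := ⟨one_mem _, one_mem _, fun v _ => by simp⟩
  mul_mem' := fun {x y} hx hy => ⟨mul_mem hx.1 hy.1, mul_mem hx.2.1 hy.2.1, fun v hv => by
    have h1 := hy.2.2 v hv
    have h2 := hx.2.2 v hv
    have h3 := (mem_normalizer_iff.mp hx.1 _).mp h1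
    convert mul_mem h3 h2 using 1
    group⟩
  inv_mem' := fun {x} hx => ⟨inv_mem hx.1, inv_mem hx.2.1, fun v hv => by
    have h1 := A.inv_mem (hx.2.2 v hv)
    have h3 := (mem_normalizer_iff.mp (inv_mem hx.1) _).mp h1
    convert h3 using 1
    group⟩

theorem fixMod_normalized {A B : Subgroup G} {h : G} (hA : h ∈ normalizer (A : Set G))
    (hB : h ∈ normalizer (B : Set G)) {x : G} (hx : x ∈ fixMod A B) : h * x * h⁻¹ ∈ fixMod A B :=
  ⟨mul_mem (mul_mem hA hx.1) (inv_mem hA), mul_mem (mul_mem hB hx.2.1) (inv_mem hB), fun v hv => by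
    have hv' : h⁻¹ * v * h ∈ B := by
      have := (mem_normalizer_iff.mp (inv_mem hB) v).mp hv
      rwa [inv_inv] at this
    have h1 := (mem_normalizer_iff.mp hA _).mp (hx.2.2 _ hv')
    convert h1 using 1
    group⟩

/-- the standing hypotheses on a normal subgroup whose quotient by `Nn` is elementary abelian -/
structure IsElemSection (p : ℕ) (Nn B : Subgroup G) : Prop where
  le : Nn ≤ B
  comm : ∀ x ∈ B, ∀ y ∈ B, x * y * x⁻¹ * y⁻¹ ∈ Nn
  pow : ∀ x ∈ B, x ^ p ∈ Nn

theorem IsElemSection.le_normalizer {Nn B N : Subgroup G} (h : IsElemSection p Nn B) (h1 : Nn ≤ N)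
    (h2 : N ≤ B) {x : G} (hx : x ∈ B) : x ∈ normalizer (N : Set G) := by
  rw [mem_normalizer_iff]
  intro v
  constructor
  · intro hv
    convert mul_mem (h1 (h.comm x hx v (h2 hv))) hv using 1
    group
  · intro hv
    have h3 : v ∈ B := by
      have := B.mul_mem (B.mul_mem (B.inv_mem hx) (h2 hv)) hx
      convert this using 1
      group
    convert mul_mem (N.inv_mem (h1 (h.comm x hx v h3))) hv using 1
    group

/-- plane data: `u, e` modulo `N`, a transvection `a` -/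
structure IsPlane (p : ℕ) (Nn B N : Subgroup G) (u e a : G) : Prop where
  sect : IsElemSection p Nn B
  ge : Nn ≤ N
  le : N ≤ B
  u_mem : u ∈ B
  e_mem : e ∈ B
  u_not : u ∉ N
  a_norm : a ∈ normalizer (N : Set G)
  a_u : a * u * a⁻¹ * u⁻¹ ∈ N
  a_e : a * e * a⁻¹ * (e * u)⁻¹ ∈ N

/-- `h` is diagonal with entries `i, j` on the plane -/
structure IsTorus (N : Subgroup G) (u e h : G) (i j : ℕ) : Prop where
  norm : h ∈ normalizer (N : Set G)
  act_u : h * u * h⁻¹ * (u ^ i)⁻¹ ∈ N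
  act_e : h * e * h⁻¹ * (e ^ j)⁻¹ ∈ N ⊔ zpowers u

variable {Nn B N : Subgroup G} {u e a : G}

theorem IsPlane.comm_mod (hP : IsPlane p Nn B N u e a) {x y : G} (hx : x ∈ B) (hy : y ∈ B) :
    x * y * x⁻¹ * y⁻¹ ∈ N :=
  hP.ge (hP.sect.comm x hx y hy)

theorem IsPlane.line_le (hP : IsPlane p Nn B N u e a) : N ⊔ zpowers u ≤ B :=
  sup_le hP.le (zpowers_le.mpr hP.u_mem)

theorem IsPlane.plane_le (hP : IsPlane p Nn B N u e a) : N ⊔ zpowers u ⊔ zpowers e ≤ B :=
  sup_le hP.line_le (zpowers_le.mpr hP.e_mem)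

variable [Finite G]

/-- a torus element can be moved into `M0` -/
theorem exists_torus_mem [Fact p.Prime] (hP : IsPlane p Nn B N u e a) (M0 P : Subgroup G) [P.Normal]
    (hPp : IsPGroup p P) (hPM : P ≤ M0) (ha : ∃ k : ℕ, a ^ p ^ k = 1)
    (hT : ∀ T : Subgroup G, IsPGroup p T → P ≤ T → a ∈ T → normalizer (T : Set G) ≤ M0)
    {h : G} {i j : ℕ} (hh : IsTorus N u e h i j) : ∃ k ∈ M0, IsTorus N u e k i j := by
  set L := N ⊔ zpowers u with hL
  set P2 := L ⊔ zpowers e with hP2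
  have haL : a ∈ normalizer (L : Set G) := mem_normalizer_of_cj_eq (cj_eq_self_of_le (by
    rw [hL, cj, Subgroup.map_sup, MonoidHom.map_zpowers]
    refine sup_le ((cj_eq_of_mem_normalizer hP.a_norm).le.trans le_sup_left) (zpowers_le.mpr ?_)
    show a * u * a⁻¹ ∈ L
    have := mul_mem (mem_sup_left hP.a_u : _ ∈ L) (mem_sup_right (mem_zpowers u) : u ∈ L)
    simpa using this))
  have haP : a ∈ normalizer (P2 : Set G) := mem_normalizer_of_cj_eq (cj_eq_self_of_le (by
    rw [hP2, cj, Subgroup.map_sup, MonoidHom.map_zpowers]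
    refine sup_le ((cj_eq_of_mem_normalizer haL).le.trans le_sup_left) (zpowers_le.mpr ?_)
    show a * e * a⁻¹ ∈ P2
    have h1 : e * u ∈ P2 := mul_mem (mem_sup_right (mem_zpowers e)) (mem_sup_left (mem_sup_right (mem_zpowers u)))
    have := mul_mem (mem_sup_left (mem_sup_left hP.a_e) : _ ∈ P2) h1
    rwa [inv_mul_cancel_right] at this))
  have hhL : h ∈ normalizer (L : Set G) := mem_normalizer_of_cj_eq (cj_eq_self_of_le (by
    rw [hL, cj, Subgroup.map_sup, MonoidHom.map_zpowers]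
    refine sup_le ((cj_eq_of_mem_normalizer hh.norm).le.trans le_sup_left) (zpowers_le.mpr ?_)
    show h * u * h⁻¹ ∈ L
    have := mul_mem (mem_sup_left hh.act_u : _ ∈ L) (pow_mem (mem_sup_right (mem_zpowers u) : u ∈ L) i)
    simpa using this))
  have hhP : h ∈ normalizer (P2 : Set G) := mem_normalizer_of_cj_eq (cj_eq_self_of_le (by
    rw [hP2, cj, Subgroup.map_sup, MonoidHom.map_zpowers]
    refine sup_le ((cj_eq_of_mem_normalizer hhL).le.trans le_sup_left) (zpowers_le.mpr ?_)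
    show h * e * h⁻¹ ∈ P2
    have := mul_mem (mem_sup_left hh.act_e : _ ∈ P2) (pow_mem (mem_sup_right (mem_zpowers e) : e ∈ P2) j)
    simpa using this))
  set KU := fixMod N L ⊓ fixMod L P2 with hKU
  -- `a ∈ KU`
  have hgenfix : ∀ (A C : Subgroup G), Nn ≤ A → A ≤ B → ∀ y, y ∈ B → C = A ⊔ zpowers y →
      ∀ x, x ∈ normalizer (A : Set G) → x * y * x⁻¹ * y⁻¹ ∈ A → x ∈ normalizer (C : Set G) → x ∈ fixMod A C := by
    intro A C h1 h2 y hy hC x hxA hxy hxC
    refine ⟨hxA, hxC, fun v hv => ?_⟩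
    have hle : A ⊔ zpowers y ≤ B := sup_le h2 (zpowers_le.mpr hy)
    rw [hC, sup_eq_closure] at hv
    induction hv using closure_induction with
    | mem v hv =>
      rcases hv with hv | hv
      · exact mul_mem ((mem_normalizer_iff.mp hxA v).mp hv) (A.inv_mem hv)
      · obtain ⟨k, rfl⟩ := hv
        induction k using Int.induction_on with
        | zero => simp
        | succ k ih =>
          have hn : y ^ (k : ℤ) ∈ normalizer (A : Set G) :=
            hP.sect.le_normalizer h1 h2 (zpow_mem hy _)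
          have h3 := mul_mem ih ((mem_normalizer_iff.mp hn _).mp hxy)
          convert h3 using 1
          dsimp only; rw [_root_.zpow_add_one]; group
        | pred k ih =>
          have hn : y ^ (-(k : ℤ) - 1) ∈ normalizer (A : Set G) :=
            hP.sect.le_normalizer h1 h2 (zpow_mem hy _)
          have h3 := mul_mem ih ((mem_normalizer_iff.mp hn _).mp (A.inv_mem hxy))
          convert h3 using 1
          dsimp only
          group
    | one => simp
    | mul v w hv hw ihv ihw =>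
      have hvB : v ∈ B := hle (by rw [sup_eq_closure]; exact hv)
      have h3 := mul_mem ihv ((mem_normalizer_iff.mp (hP.sect.le_normalizer h1 h2 hvB) _).mp ihw)
      convert h3 using 1
      group
    | inv v hv ihv =>
      have hvB : v⁻¹ ∈ B := B.inv_mem (hle (by rw [sup_eq_closure]; exact hv))
      have h3 := (mem_normalizer_iff.mp (hP.sect.le_normalizer h1 h2 hvB) _).mp (A.inv_mem ihv)
      convert h3 using 1
      group
  have haKU : a ∈ KU := by
    refine ⟨hgenfix N L hP.ge hP.le u hP.u_mem rfl a hP.a_norm hP.a_u haL,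
      hgenfix L P2 (hP.ge.trans le_sup_left) hP.line_le e hP.e_mem rfl a haL ?_ haP⟩
    have h1 : e * u * e⁻¹ ∈ L :=
      (mem_normalizer_iff.mp (hP.sect.le_normalizer (hP.ge.trans le_sup_left) hP.line_le hP.e_mem) u).mp
        (mem_sup_right (mem_zpowers u))
    have := mul_mem (mem_sup_left hP.a_e : _ ∈ L) h1
    convert this using 1
    group
  -- Frattini
  set U := P ⊔ KU with hU
  obtain ⟨k0, hk0⟩ := ha
  have hap : IsPGroup p (zpowers a) := by
    obtain ⟨r, -, hr⟩ := (Nat.dvd_prime_pow Fact.out).mp (orderOf_dvd_of_pow_eq_one hk0)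
    exact IsPGroup.of_card ((Nat.card_zpowers a).trans hr)
  have hT0 : IsPGroup p ↥(P ⊔ zpowers a) := hPp.to_sup_of_normal_left hap
  obtain ⟨T, hTs, hT0T⟩ := H48.exists_isSylowIn_ge hT0
    (sup_le le_sup_left ((zpowers_le.mpr haKU).trans le_sup_right) : P ⊔ zpowers a ≤ U)
  have hhU : cj h U = U := cj_eq_self_of_le (by
    rw [hU, cj, Subgroup.map_sup]
    refine sup_le ((cj_eq_of_mem_normalizer ((normalizer_eq_top (H := P)).ge (mem_top h))).le.trans le_sup_left) ?_
    rintro _ ⟨x, hx, rfl⟩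
    exact mem_sup_right ⟨fixMod_normalized hh.norm hhL hx.1, fixMod_normalized hhL hhP hx.2⟩)
  have hTh : IsSylowIn p (cj h T) U := by have := hTs.cj h; rwa [hhU] at this
  obtain ⟨s, hs, hsT⟩ := hTh.exists_conj hTs
  have hn : s * h ∈ normalizer (T : Set G) := mem_normalizer_of_cj_eq (by rw [← H48.cj_cj]; exact hsT)
  have hM : s * h ∈ M0 := hT T hTs.isPGroup (le_sup_left.trans hT0T) (hT0T (mem_sup_right (mem_zpowers a))) hn
  obtain ⟨p1, hp1, q, hq, rfl⟩ := mem_sup_of_normal_left.mp hs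
  refine ⟨q * h, ?_, mul_mem hq.1.1 hh.norm, ?_, ?_⟩
  · have := mul_mem (inv_mem (hPM hp1)) hM
    simpa [mul_assoc] using this
  · have h1 := (mem_normalizer_iff.mp hq.1.1 _).mp hh.act_u
    have h2 := hq.1.2.2 (u ^ i) (pow_mem (mem_sup_right (mem_zpowers u)) i)
    convert mul_mem h1 h2 using 1
    group
  · have h1 := (mem_normalizer_iff.mp hq.2.1 _).mp hh.act_e
    have h2 := hq.2.2.2 (e ^ j) (pow_mem (mem_sup_right (mem_zpowers e)) j)
    convert mul_mem h1 h2 using 1
    group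

/-- the plane and the two elements give a section `F(p)` -/
theorem hasSection_of_plane [Fact p.Prime] (hp : p ≠ 2) (hP : IsPlane p Nn B N u e a) (M0 : Subgroup G)
    (hBM : B ≤ M0) (haM : a ∈ M0) {h : G} (hhM : h ∈ M0) {n n' : ℕ} (hn : IsPrimitive p n)
    (hnn : n * n' ≡ 1 [MOD p]) (hh : IsTorus N u e h n n') :
    HasSection (fOver (ZMod p)) M0 := by
  classical
  set G1 := M0 ⊓ normalizer (N : Set G) with hG1
  have hN1 : N ≤ G1 := le_inf (hP.le.trans hBM) le_normalizer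
  set Nq := N.subgroupOf G1 with hNq
  have : Nq.Normal := normal_subgroupOf_of_le_normalizer inf_le_right
  have hB1 : ∀ x ∈ B, x ∈ G1 := fun x hx => ⟨hBM hx, hP.sect.le_normalizer hP.ge hP.le hx⟩
  set π := QuotientGroup.mk' Nq
  have hπ : ∀ x y : G1, (x : G) * (y : G)⁻¹ ∈ N → π x = π y := fun x y hxy => by
    rw [← mul_inv_eq_one, ← map_inv, ← map_mul]
    exact (QuotientGroup.eq_one_iff _).mpr hxy
  have hπ1 : ∀ x : G1, π x = 1 → (x : G) ∈ N := fun x hx => (QuotientGroup.eq_one_iff x).mp hx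
  let u1 : G1 := ⟨u, hB1 u hP.u_mem⟩
  let e1 : G1 := ⟨e, hB1 e hP.e_mem⟩
  let a1 : G1 := ⟨a, haM, hP.a_norm⟩
  let h1 : G1 := ⟨h, hhM, hh.norm⟩
  set U := π u1
  set E := π e1
  have hUp : U ^ p = 1 := by
    rw [← map_pow]; exact (QuotientGroup.eq_one_iff _).mpr (hP.ge (hP.sect.pow u hP.u_mem))
  have hEp : E ^ p = 1 := by
    rw [← map_pow]; exact (QuotientGroup.eq_one_iff _).mpr (hP.ge (hP.sect.pow e hP.e_mem))
  have hUE : Commute U E := by
    have := hπ (u1 * e1) (e1 * u1) (by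
      have h0 := hP.comm_mod hP.u_mem hP.e_mem
      show u * e * (e * u)⁻¹ ∈ N
      convert h0 using 1
      group)
    simpa [Commute, SemiconjBy] using this
  let f : Multiplicative (Fin 2 → ZMod p) →* G1 ⧸ Nq := MonoidHom.mk'
    (fun v => U ^ (Multiplicative.toAdd v 0).val * E ^ (Multiplicative.toAdd v 1).val) (fun v w => by
      simp only [toAdd_mul, Pi.add_apply]
      rw [ZMod.val_add, ZMod.val_add, ← pow_eq_pow_mod _ hUp, ← pow_eq_pow_mod _ hEp, pow_add, pow_add]
      simp only [mul_assoc]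
      congr 1
      rw [← mul_assoc, ← mul_assoc, (hUE.pow_pow _ _).eq])
  have hfv : ∀ (v : Fin 2 → ZMod p), f (Multiplicative.ofAdd v) = U ^ (v 0).val * E ^ (v 1).val := fun _ => rfl
  have hUa : π a1 * U * (π a1)⁻¹ = U := by
    rw [← map_inv, ← map_mul, ← map_mul]
    exact hπ _ _ hP.a_u
  have hEa : π a1 * E * (π a1)⁻¹ = E * U := by
    rw [← map_inv, ← map_mul, ← map_mul, ← map_mul]
    exact hπ _ _ hP.a_e
  have hUh : π h1 * U * (π h1)⁻¹ = U ^ n := by
    rw [← map_inv, ← map_mul, ← map_mul, ← map_pow]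
    exact hπ _ _ hh.act_u
  obtain ⟨l, hEh⟩ : ∃ l : ℤ, π h1 * E * (π h1)⁻¹ = E ^ n' * U ^ l := by
    have hmem : h * e * h⁻¹ * (e ^ n')⁻¹ ∈ N ⊔ zpowers u := hh.act_e
    have hle : N ⊔ zpowers u ≤ ((zpowers U).comap π).map G1.subtype := by
      refine sup_le (fun x hx => ⟨⟨x, hN1 hx⟩, ?_, rfl⟩) (zpowers_le.mpr ⟨u1, mem_zpowers U, rfl⟩)
      show π ⟨x, hN1 hx⟩ ∈ zpowers U
      rw [show π ⟨x, hN1 hx⟩ = 1 from (QuotientGroup.eq_one_iff _).mpr hx]; exact one_mem _
    obtain ⟨x, hx, hxe⟩ := hle hmem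
    obtain ⟨l, hl⟩ := mem_zpowers_iff.mp hx
    refine ⟨l, ?_⟩
    have hcx : x = h1 * e1 * h1⁻¹ * (e1 ^ n')⁻¹ := Subtype.ext hxe
    rw [hcx, map_mul, map_mul, map_mul, map_inv, map_inv, map_pow, eq_mul_inv_iff_mul_eq] at hl
    rw [← hl]
    exact ((hUE.zpow_left l).pow_right n').eq
  have hfinj : Function.Injective f := by
    rw [injective_iff_map_eq_one]
    intro v hv
    set i := (Multiplicative.toAdd v 0).val
    set j := (Multiplicative.toAdd v 1).val
    change U ^ i * E ^ j = 1 at hv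
    have hU1 : ∀ k : ℕ, U ^ k = 1 → (k : ZMod p) = 0 := by
      intro k hk
      rw [ZMod.natCast_eq_zero_iff]
      by_contra hd
      obtain ⟨r, -, hr⟩ := Nat.exists_mul_mod_eq_one_of_coprime
        ((Fact.out : p.Prime).coprime_iff_not_dvd.mpr hd).symm (Fact.out : p.Prime).one_lt
      refine hP.u_not (hπ1 u1 ?_)
      show U = 1
      rw [← pow_one U, ← hr, ← pow_eq_pow_mod _ hUp, pow_mul, hk, one_pow]
    have hj : (j : ZMod p) = 0 := by
      have h2 := congrArg (fun x => π a1 * x * (π a1)⁻¹) hv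
      rw [mul_one, mul_inv_cancel] at h2
      have h3 : π a1 * (U ^ i * E ^ j) * (π a1)⁻¹ = U ^ i * E ^ j * U ^ j := by
        rw [← conj_mul, ← conj_pow, ← conj_pow, hUa, hEa, hUE.symm.mul_pow, mul_assoc]
      rw [h3, hv, one_mul] at h2
      exact hU1 j h2
    have hj' : (Multiplicative.toAdd v) 1 = 0 := by
      rw [← ZMod.natCast_zmod_val ((Multiplicative.toAdd v) 1)]; exact hj
    have hi : (i : ZMod p) = 0 := by
      refine hU1 i ?_
      have : j = 0 := by show (Multiplicative.toAdd v 1).val = 0; rw [hj', ZMod.val_zero]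
      rwa [this, pow_zero, mul_one] at hv
    refine Multiplicative.toAdd.injective (funext fun k => ?_)
    fin_cases k
    · show Multiplicative.toAdd v 0 = 0
      rw [← ZMod.natCast_zmod_val (Multiplicative.toAdd v 0)]; exact hi
    · exact hj'
  -- the group of elements inducing upper triangular matrices
  let M : Subgroup (G1 ⧸ Nq) :=
    { carrier := {x | ∃ X : SL (ZMod p), X 1 0 = 0 ∧ ∀ v, x * f (Multiplicative.ofAdd v) * x⁻¹ =
        f (Multiplicative.ofAdd (X.1 *ᵥ v))}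
      one_mem' := ⟨1, by simp, fun v => by simp⟩
      mul_mem' := by
        rintro x y ⟨X, hX, hx⟩ ⟨Y, hY, hy⟩
        refine ⟨X * Y, by simp [Matrix.mul_apply, Fin.sum_univ_two, hX, hY], fun v => ?_⟩
        rw [Matrix.SpecialLinearGroup.coe_mul, ← Matrix.mulVec_mulVec, ← hx, ← hy]
        group
      inv_mem' := by
        rintro x ⟨X, hX, hx⟩
        refine ⟨X⁻¹, by rw [sl_inv_apply_10, hX, neg_zero], fun v => ?_⟩
        have h2 := hx ((X⁻¹).1 *ᵥ v)
        rw [Matrix.mulVec_mulVec, ← Matrix.SpecialLinearGroup.coe_mul, mul_inv_cancel,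
          Matrix.SpecialLinearGroup.coe_one, Matrix.one_mulVec] at h2
        rw [← h2]; group }
  choose Xof hXtri hXof using fun x : M => x.2
  have huniq : ∀ (m : M) (X : SL (ZMod p)), (∀ v, (m : G1 ⧸ Nq) * f (Multiplicative.ofAdd v) * (m : G1 ⧸ Nq)⁻¹ =
      f (Multiplicative.ofAdd (X.1 *ᵥ v))) → Xof m = X := fun m X hm =>
    Subtype.ext (Matrix.ext_iff_mulVec.mpr fun v =>
      Multiplicative.ofAdd.injective (hfinj ((hXof m v).symm.trans (hm v))))
  let φ : M →* SL (ZMod p) := MonoidHom.mk' Xof fun m k => huniq _ _ fun v => by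
    rw [Matrix.SpecialLinearGroup.coe_mul, ← Matrix.mulVec_mulVec, ← hXof, ← hXof, Subgroup.coe_mul]
    group
  have hact : ∀ (x : G1 ⧸ Nq) (X : SL (ZMod p)), x * U * x⁻¹ = f (Multiplicative.ofAdd (X.1 *ᵥ ![1, 0])) →
      x * E * x⁻¹ = f (Multiplicative.ofAdd (X.1 *ᵥ ![0, 1])) →
      ∀ v, x * f (Multiplicative.ofAdd v) * x⁻¹ = f (Multiplicative.ofAdd (X.1 *ᵥ v)) := by
    intro x X hU hE v
    have hv : v = (v 0).val • ![1, 0] + (v 1).val • ![0, 1] := by
      funext k; fin_cases k <;> simp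
    conv_lhs => rw [hfv, ← conj_mul, ← conj_pow, ← conj_pow, hU, hE, ← map_pow f, ← map_pow f, ← map_mul f,
      ← ofAdd_nsmul, ← ofAdd_nsmul, ← ofAdd_add, ← Matrix.mulVec_smul, ← Matrix.mulVec_smul,
      ← Matrix.mulVec_add, ← hv]
  have h00 : f (Multiplicative.ofAdd ![1, 0]) = U := by
    rw [hfv]; simp [ZMod.val_one]
  have hz : ∀ i j : ℕ, f (Multiplicative.ofAdd ![(i : ZMod p), (j : ZMod p)]) = U ^ i * E ^ j := fun i j => by
    rw [hfv]
    simp [ZMod.val_natCast, ← pow_eq_pow_mod _ hUp, ← pow_eq_pow_mod _ hEp]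
  -- the two generators
  obtain ⟨l', hl'⟩ : ∃ l' : ℕ, U ^ l = U ^ l' := by
    obtain ⟨r, hr⟩ := mem_powers_iff_mem_zpowers.mpr (zpow_mem (mem_zpowers U) l)
    exact ⟨r, hr.symm⟩
  have hnn' : (n : ZMod p) * (n' : ZMod p) = 1 := by
    rw [← Nat.cast_mul, ← Nat.cast_one]; exact (ZMod.natCast_eq_natCast_iff _ _ p).mpr hnn
  let Xh : SL (ZMod p) := ⟨!![(n : ZMod p), (l' : ZMod p); 0, (n' : ZMod p)], by
    rw [Matrix.det_fin_two]; simp [hnn']⟩
  have hah : ∀ v, π a1 * f (Multiplicative.ofAdd v) * (π a1)⁻¹ = f (Multiplicative.ofAdd ((up (1 : ZMod p)).1 *ᵥ v)) := by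
    refine hact _ _ ?_ ?_
    · rw [hUa, show (up (1 : ZMod p)).1 *ᵥ ![1, 0] = ![((1 : ℕ) : ZMod p), ((0 : ℕ) : ZMod p)] by
        funext k; fin_cases k <;> simp [up_coe], hz, pow_one, pow_zero, mul_one]
    · rw [hEa, show (up (1 : ZMod p)).1 *ᵥ ![0, 1] = ![((1 : ℕ) : ZMod p), ((1 : ℕ) : ZMod p)] by
        funext k; fin_cases k <;> simp [up_coe], hz, pow_one, pow_one, hUE.eq]
  have hhh : ∀ v, π h1 * f (Multiplicative.ofAdd v) * (π h1)⁻¹ = f (Multiplicative.ofAdd (Xh.1 *ᵥ v)) := by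
    refine hact _ _ ?_ ?_
    · rw [hUh, show Xh.1 *ᵥ ![1, 0] = ![(n : ZMod p), ((0 : ℕ) : ZMod p)] by
        funext k; fin_cases k <;> simp [Xh], hz, pow_zero, mul_one]
    · rw [hEh, hl', show Xh.1 *ᵥ ![0, 1] = ![(l' : ZMod p), (n' : ZMod p)] by
        funext k; fin_cases k <;> simp [Xh], hz, (hUE.pow_pow _ _).eq]
  let ma : M := ⟨π a1, up 1, by simp [up_coe], hah⟩
  let mh : M := ⟨π h1, Xh, by simp [Xh], hhh⟩
  have hma : φ ma = up 1 := huniq ma _ hah
  have hmh : φ mh = Xh := huniq mh _ hhh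
  have hsurj : ∀ X : SL (ZMod p), X 1 0 = 0 → ∃ m, φ m = X := by
    intro X hX
    have hd : X 0 0 * X 1 1 = 1 := by
      have := sl_det_eq X; rw [hX, mul_zero, sub_zero] at this; exact this
    obtain ⟨i, hi⟩ := hn (X 0 0).val (fun hdv => by
      have : ((X 0 0).val : ZMod p) = 0 := (ZMod.natCast_eq_zero_iff _ p).mpr hdv
      rw [ZMod.natCast_zmod_val] at this
      rw [this, zero_mul] at hd; exact zero_ne_one hd)
    set Y := φ (mh ^ i)
    have hY10 : Y 1 0 = 0 := hXtri _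
    have hY00 : Y 0 0 = X 0 0 := by
      have hh : ∀ r : ℕ, (Xh ^ r : SL (ZMod p)) 0 0 = (n : ZMod p) ^ r ∧ (Xh ^ r : SL (ZMod p)) 1 0 = 0 := by
        intro r
        induction r with
        | zero => simp
        | succ r ih =>
          rw [pow_succ, pow_succ, Matrix.SpecialLinearGroup.coe_mul]
          simp [Matrix.mul_apply, Fin.sum_univ_two, Xh, ih.2, ih.1]
      rw [show Y = Xh ^ i by rw [← hmh, ← map_pow], (hh i).1, ← Nat.cast_pow,
        (ZMod.natCast_eq_natCast_iff _ _ p).mpr hi, ZMod.natCast_zmod_val]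
    set c := (X 0 1 - Y 0 1) / Y 0 0
    have hY0 : Y 0 0 ≠ 0 := by rw [hY00]; exact left_ne_zero_of_mul (hd ▸ one_ne_zero)
    refine ⟨mh ^ i * ma ^ c.val, ?_⟩
    have hdY : Y 0 0 * Y 1 1 = 1 := by
      have := sl_det_eq Y; rw [hY10, mul_zero, sub_zero] at this; exact this
    rw [map_mul, map_pow φ ma, hma, up_pow, mul_one, ZMod.natCast_zmod_val]
    change Y * up c = X
    apply sl2_ext <;> rw [sl_mul_apply] <;> simp [up_coe]
    · exact hY00
    · simp only [c]; field_simp; ring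
    · rw [hY10, hX]
    · rw [hY10, zero_mul, zero_add]
      exact mul_left_cancel₀ hY0 (hdY.trans (hY00 ▸ hd.symm))
  have hsec := hasSection_fOver hp M φ hXtri hsurj f hfinj hXof
  exact (hsec.of_surjective (QuotientGroup.mk'_surjective Nq)).of_injective
    (inclusion_injective (inf_le_left : G1 ≤ M0))

end Cfsg.Agent.H1.Glauberman
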