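import Mathlib
import Cfsg.Agent.H1.Glauberman.Linear
import Cfsg.Agent.H1.Glauberman.Torus
import Cfsg.Agent.Thompson.Section

/-!
The plane of two quadratic elements on an elementary abelian section.
-/

set_option autoImplicit false

namespace Cfsg.Agent.H1.Glauberman

open Subgroup Cfsg.Agent.Thompson

universe u

variable {p : ℕ} [Fact p.Prime] {G : Type u} [Group G] [Finite G]

/-- `a` acts quadratically on the section `B / Nn` -/
def IsQuad (Nn B : Subgroup G) (a : G) : Prop :=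
  ∀ x ∈ B, a * (a * x * a⁻¹ * x⁻¹) * a⁻¹ * (a * x * a⁻¹ * x⁻¹)⁻¹ ∈ Nn

omit [Finite G] in
theorem IsQuad.conj {Nn B : Subgroup G} [Nn.Normal] [B.Normal] {a : G} (h : IsQuad Nn B a) (g : G) :
    IsQuad Nn B (g * a * g⁻¹) := fun x hx => by
  have hx' : g⁻¹ * x * g ∈ B := by
    have := Normal.conj_mem ‹B.Normal› x hx g⁻¹
    rwa [inv_inv] at this
  have h1 := Normal.conj_mem ‹Nn.Normal› _ (h _ hx') g
  convert h1 using 1
  group

variable {Nn B : Subgroup G} [Nn.Normal] [B.Normal]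

/-- non-unipotence of `⟨a, b⟩` at `u` and the derived planes -/
def HasPlanes (p : ℕ) (Nn B : Subgroup G) (a b u : G) : Prop :=
  ∃ (N : Subgroup G) (e : G), IsPlane p Nn B N u e a ∧
    ∀ i j : ℕ, i * j ≡ 1 [MOD p] → ∃ h ∈ closure ({a, b} : Set G), IsTorus N u e h i j

theorem exists_planes (hp : p ≠ 2) (hB : IsElemSection p Nn B) {a b : G} (hqa : IsQuad Nn B a)
    (hqb : IsQuad Nn B b) :
    (∀ W0 : Subgroup G, W0 ≤ B → a ∈ normalizer (W0 : Set G) →
      (∃ o ∈ closure ({a, b} : Set G), (orderOf o).Coprime p ∧ ∃ y ∈ W0, o * y * o⁻¹ * y⁻¹ ∉ Nn) →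
      ∃ u ∈ W0, HasPlanes p Nn B a b u) ∧
    ((¬ ∀ h ∈ closure ({a, b} : Set G), ∃ k : ℕ, ∀ x ∈ B, h ^ p ^ k * x * (h ^ p ^ k)⁻¹ * x⁻¹ ∈ Nn) →
      ∃ x ∈ B, HasPlanes p Nn B a b (a * x * a⁻¹ * x⁻¹)) := by
  classical
  set π := QuotientGroup.mk' Nn with hπdef
  have hker : ∀ x, π x = 1 ↔ x ∈ Nn := fun x => QuotientGroup.eq_one_iff x
  set V := B.map π with hVdef
  have hVc : IsMulCommutative V := isMulCommutative_iff_forall.mpr (by
    rintro _ ⟨x, hx, rfl⟩ _ ⟨y, hy, rfl⟩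
    rw [← map_mul, ← map_mul, ← mul_inv_eq_one, ← map_inv, ← map_mul, hker]
    convert hB.comm x hx y hy using 1
    group)
  let _ : CommGroup V := { (inferInstance : Group V) with
    mul_comm := fun a b => Subtype.ext (isMulCommutative_iff_forall.mp hVc _ a.2 _ b.2) }
  have hVn : V.Normal := Normal.map ‹B.Normal› π (QuotientGroup.mk'_surjective Nn)
  set H := closure ({a, b} : Set G) with hH
  have hHV : H.map π ≤ normalizer (V : Set (G ⧸ Nn)) := le_top.trans (normalizer_eq_top (H := V)).ge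
  let ρ : H →* AddMonoid.End (Additive V) :=
    (conjEnd hHV).comp (π.subgroupMap H)
  have hρ : ∀ (h : H) (v : Additive V), ((Additive.toMul (ρ h v) : V) : G ⧸ Nn) =
      π h * (Additive.toMul v : V) * (π h)⁻¹ := fun h v => conjEnd_apply hHV _ v
  let cls : ∀ x ∈ B, Additive V := fun x hx => Additive.ofMul ⟨π x, x, hx, rfl⟩
  have hcls : ∀ v : Additive V, ∃ x, ∃ hx : x ∈ B, cls x hx = v := fun v => by
    obtain ⟨x, hx, hxv⟩ := (Additive.toMul v : V).2
    exact ⟨x, hx, congrArg Additive.ofMul (Subtype.ext hxv)⟩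
  have hext : ∀ v w : Additive V, ((Additive.toMul v : V) : G ⧸ Nn) = (Additive.toMul w : V) → v = w :=
    fun v w h => Additive.toMul.injective (Subtype.ext h)
  have hVp : ∀ v : Additive V, p • v = 0 := fun v => by
    obtain ⟨x, hx, rfl⟩ := hcls v
    refine hext _ _ ?_
    show (π x) ^ p = 1
    rw [← map_pow, hker]; exact hB.pow x hx
  let a' : H := ⟨a, subset_closure (Set.mem_insert _ _)⟩
  let b' : H := ⟨b, subset_closure (Set.mem_insert_of_mem _ rfl)⟩
  have htop : closure ({a', b'} : Set H) = ⊤ := by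
    refine (Subgroup.map_injective H.subtype_injective) ?_
    rw [MonoidHom.map_closure, ← MonoidHom.range_eq_map, range_subtype]
    show _ = Subgroup.closure ({a, b} : Set G)
    congr 1
    simp [Set.image_pair, a', b']
  have hsub : ∀ (c : H) (x : G) (hx : x ∈ B), ((Additive.toMul ((ρ c - 1) (cls x hx)) : V) : G ⧸ Nn) =
      π ((c : G) * x * (c : G)⁻¹ * x⁻¹) := fun c x hx => by
    rw [end_sub_apply, end_one_apply, sub_eq_add_neg]
    show ((Additive.toMul (ρ c (cls x hx)) : V) : G ⧸ Nn) * (π x)⁻¹ = _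
    rw [hρ, map_mul, map_mul, map_mul, map_inv, map_inv]; rfl
  have hquad : ∀ c : H, IsQuad Nn B c → (ρ c - 1) * (ρ c - 1) = 0 := fun c hc => by
    refine AddMonoidHom.ext fun v => ?_
    obtain ⟨x, hx, rfl⟩ := hcls v
    have hy : (c : G) * x * (c : G)⁻¹ * x⁻¹ ∈ B := mul_mem (Normal.conj_mem ‹B.Normal› x hx c) (B.inv_mem hx)
    have e1 : (ρ c - 1) (cls x hx) = cls _ hy := hext _ _ ((hsub c x hx).trans rfl)
    show (ρ c - 1) ((ρ c - 1) (cls x hx)) = 0
    rw [e1]
    refine hext _ _ ((hsub c _ hy).trans ?_)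
    exact (hker _).mpr (hc x hx)
  have hA := hquad a' hqa
  have hBq := hquad b' hqb
  set A := ρ a' - 1 with hAdef
  set Bq := ρ b' - 1 with hBdef
  set z := A * Bq + Bq * A with hz
  -- from a non-nilpotent vector to planes
  have core : ∀ (x : G) (hx : x ∈ B), (∀ n : ℕ, (z ^ n) (cls x hx) ≠ 0) →
      (∃ n : ℕ, (z ^ n) (A (cls x hx)) = 0) → HasPlanes p Nn B a b x := by
    intro x hx hu hAu
    obtain ⟨N, ev, hu', haN, hau, hae, htor⟩ := exists_plane hp hVp ρ htop hA hBq hu hAu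
    obtain ⟨e, he, rfl⟩ := hcls ev
    let N' : Subgroup G :=
      { carrier := {y | ∃ hy : y ∈ B, cls y hy ∈ N}
        one_mem' := ⟨one_mem _, by convert zero_mem N using 1; exact hext _ _ (map_one π)⟩
        mul_mem' := fun {y w} ⟨hy, h1⟩ ⟨hw, h2⟩ => ⟨mul_mem hy hw, by
          convert add_mem h1 h2 using 1; exact hext _ _ (map_mul π y w)⟩
        inv_mem' := fun {y} ⟨hy, h1⟩ => ⟨inv_mem hy, by
          convert neg_mem h1 using 1; exact hext _ _ (map_inv π y)⟩ }
    have hmem : ∀ (y : G) (v : Additive V), y ∈ B → π y = ((Additive.toMul v : V) : G ⧸ Nn) → v ∈ N → y ∈ N' :=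
      fun y v hy hyv hv => ⟨hy, by convert hv using 1; exact hext _ _ hyv⟩
    have hNle : Nn ≤ N' := fun y hy => hmem y 0 (hB.le hy) (((hker y).mpr hy).trans rfl) (zero_mem N)
    have hN'B : N' ≤ B := fun y hy => hy.1
    have hnorm : ∀ c : H, (∀ v ∈ N, ρ c v ∈ N) → (c : G) ∈ normalizer (N' : Set G) := fun c hc =>
      H48.mem_normalizer_of_cj_eq (H48.cj_eq_self_of_le (H48.cj_le.mpr fun y ⟨hy, hyN⟩ =>
        hmem _ _ (Normal.conj_mem ‹B.Normal› y hy c) (by
          rw [hρ, map_mul, map_mul, map_inv]; rfl) (hc _ hyN)))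
    refine ⟨N', e, ⟨hB, hNle, hN'B, hx, he, fun ⟨_, h⟩ => hu' h, hnorm a' haN, ?_, ?_⟩, fun i j hij => ?_⟩
    · refine hmem _ _ (mul_mem (Normal.conj_mem ‹B.Normal› x hx a) (B.inv_mem hx)) ?_ hau
      rw [sub_eq_add_neg]
      show π (a * x * a⁻¹ * x⁻¹) = ((Additive.toMul (ρ a' (cls x hx)) : V) : G ⧸ Nn) * (π x)⁻¹
      rw [hρ, map_mul, map_mul, map_mul, map_inv, map_inv]; rfl
    · refine hmem _ _ (mul_mem (Normal.conj_mem ‹B.Normal› e he a) (B.inv_mem (mul_mem he hx))) ?_ hae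
      rw [sub_eq_add_neg]
      show π (a * e * a⁻¹ * (e * x)⁻¹) = ((Additive.toMul (ρ a' (cls e he)) : V) : G ⧸ Nn) * (π e * π x)⁻¹
      rw [hρ, map_mul, map_mul, map_mul, map_inv, map_inv, map_mul]; rfl
    · obtain ⟨h, hhN, hhu, l, hhe⟩ := htor i j hij
      refine ⟨h, h.2, hnorm h hhN, ?_, ?_⟩
      · refine hmem _ _ (mul_mem (Normal.conj_mem ‹B.Normal› x hx h) (B.inv_mem (pow_mem hx i))) ?_ hhu
        rw [sub_eq_add_neg]
        show π ((h : G) * x * (h : G)⁻¹ * (x ^ i)⁻¹) = ((Additive.toMul (ρ h (cls x hx)) : V) : G ⧸ Nn) * ((π x) ^ i)⁻¹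
        rw [hρ, map_mul, map_mul, map_mul, map_inv, map_inv, map_pow]; rfl
      · have h1 : (h : G) * e * (h : G)⁻¹ * (e ^ j * x ^ l)⁻¹ ∈ N' := by
          refine hmem _ _ (mul_mem (Normal.conj_mem ‹B.Normal› e he h)
            (B.inv_mem (mul_mem (pow_mem he j) (pow_mem hx l)))) ?_ hhe
          rw [sub_eq_add_neg]
          show π ((h : G) * e * (h : G)⁻¹ * (e ^ j * x ^ l)⁻¹) =
            ((Additive.toMul (ρ h (cls e he)) : V) : G ⧸ Nn) * ((π e) ^ j * (π x) ^ l)⁻¹
          rw [hρ, map_mul, map_mul, map_mul, map_inv, map_inv, map_mul, map_pow, map_pow]; rfl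
        have h2 : e ^ j * x ^ l * (e ^ j)⁻¹ * (x ^ l)⁻¹ ∈ N' := hNle (hB.comm _ (pow_mem he j) _ (pow_mem hx l))
        have h3 : x ^ l ∈ N' ⊔ zpowers x := mem_sup_right (pow_mem (mem_zpowers x) l)
        have h4 := mul_mem (mul_mem (mem_sup_left h1 : _ ∈ N' ⊔ zpowers x) (mem_sup_left h2)) h3
        convert h4 using 1
        group
  refine ⟨fun W0 hW0 haW ⟨o, ho, hop, y, hy, hoy⟩ => ?_, fun hnp => ?_⟩
  · have hex : ∀ n : ℕ, (z ^ n) (cls y (hW0 hy)) ≠ 0 := by
      intro n hn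
      let V0 : AddSubgroup (Additive V) := AddMonoidHom.ker (z ^ n : AddMonoid.End (Additive V))
      have hzA : Commute z A := by
        show z * A = A * z
        rw [hz, add_mul, mul_add, mul_assoc Bq, hA, mul_zero, ← mul_assoc A A, hA, zero_mul, add_zero, zero_add, mul_assoc]
      have hzB : Commute z Bq := by
        show z * Bq = Bq * z
        rw [hz, add_mul, mul_add, mul_assoc A, hBq, mul_zero, ← mul_assoc Bq Bq, hBq, zero_mul, add_zero, zero_add, mul_assoc]
      have hinv : ∀ h : H, Commute z (ρ h) := fun h => by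
        refine endo_induction htop ρ (P := fun f => Commute z f) (Commute.one_right z)
          (fun f g hf hg => hf.mul_right hg) ?_ ?_ ?_ ?_ h
        · rw [show ρ a' = 1 + A by rw [hAdef]; abel]; exact (Commute.one_right z).add_right hzA
        · rw [inv_of_sq_zero ρ hA]; exact (Commute.one_right z).sub_right hzA
        · rw [show ρ b' = 1 + Bq by rw [hBdef]; abel]; exact (Commute.one_right z).add_right hzB
        · rw [inv_of_sq_zero ρ hBq]; exact (Commute.one_right z).sub_right hzB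
      have hV0 : ∀ (h : H), ∀ v ∈ V0, ρ h v ∈ V0 := fun h v hv => by
        show (z ^ n) (ρ h v) = 0
        rw [← end_mul_apply, ((hinv h).pow_left n).eq, end_mul_apply, show (z ^ n) v = 0 from hv, map_zero]
      let ρ0 : H →* AddMonoid.End V0 :=
        { toFun := fun h => AddMonoidHom.codRestrict
            ((ρ h : Additive V →+ Additive V).comp V0.subtype) V0 fun v => hV0 h v v.2
          map_one' := AddMonoidHom.ext fun v => Subtype.ext (by
            show ρ 1 (v : Additive V) = v; rw [map_one]; rfl)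
          map_mul' := fun g h => AddMonoidHom.ext fun v => Subtype.ext (by
            show ρ (g * h) (v : Additive V) = ρ g (ρ h v); rw [map_mul]; rfl) }
      have hA0 : ∀ c : H, (ρ c - 1) * (ρ c - 1) = 0 → (ρ0 c - 1) * (ρ0 c - 1) = 0 := fun c hc =>
        AddMonoidHom.ext fun v => Subtype.ext (congrArg (fun f : AddMonoid.End (Additive V) => f v) hc)
      obtain ⟨k, hk⟩ : ∃ k : ℕ, ρ0 ⟨o, ho⟩ ^ p ^ k = 1 := by
        by_contra hno
        obtain ⟨v, hv⟩ := exists_pow_apply_ne_zero (p := p) (fun v => Subtype.ext (by simpa using hVp v)) ρ0 htop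
          (hA0 a' hA) (hA0 b' hBq) (fun hall => hno (hall ⟨o, ho⟩))
        refine hv n (Subtype.ext ?_)
        have hval : ∀ (m : ℕ) (w : V0), (((((ρ0 a' - 1) * (ρ0 b' - 1) + (ρ0 b' - 1) * (ρ0 a' - 1)) ^ m) w : V0) : Additive V)
            = (z ^ m) w := by
          intro m
          induction m with
          | zero => intro w; simp
          | succ m ih => intro w; rw [pow_succ, pow_succ, end_mul_apply, end_mul_apply, ih]; rfl
        rw [hval]
        exact v.2
      obtain ⟨r, hr⟩ := exists_pow_eq_self_of_coprime (hop.symm.pow_left k : (p ^ k).Coprime (orderOf o))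
      have hρo : ρ0 ⟨o, ho⟩ = 1 := by
        have h1 : (⟨o, ho⟩ : H) ^ (p ^ k * r) = ⟨o, ho⟩ := Subtype.ext (by
          rw [SubgroupClass.coe_pow, pow_mul]; exact hr)
        rw [← h1, map_pow, pow_mul, hk, one_pow]
      have h2 := congrArg (fun v : V0 => ((Additive.toMul (v : Additive V) : V) : G ⧸ Nn))
        (congrArg (fun f : AddMonoid.End V0 => f ⟨cls y (hW0 hy), hn⟩) hρo)
      refine hoy ((hker _).mp ?_)
      rw [map_mul, map_mul, map_mul, map_inv, map_inv, mul_inv_eq_one]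
      exact (hρ ⟨o, ho⟩ (cls y (hW0 hy))).symm.trans h2
    by_cases hc : ∃ n : ℕ, (z ^ n) (A (cls y (hW0 hy))) = 0
    · exact ⟨y, hy, core y (hW0 hy) hex hc⟩
    push Not at hc
    have hy' : a * y * a⁻¹ * y⁻¹ ∈ W0 := mul_mem ((Subgroup.mem_normalizer_iff.mp haW y).mp hy) (W0.inv_mem hy)
    have e1 : A (cls y (hW0 hy)) = cls _ (hW0 hy') := hext _ _ ((hsub a' y (hW0 hy)).trans rfl)
    refine ⟨_, hy', core _ (hW0 hy') (fun n => e1 ▸ hc n) ⟨0, ?_⟩⟩
    rw [← e1, ← end_mul_apply A A, hA]; simp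
  · obtain ⟨v, hv⟩ := exists_pow_apply_ne_zero (p := p) hVp ρ htop hA hBq (fun hall => hnp fun h hh => by
      obtain ⟨k, hk⟩ := hall ⟨h, hh⟩
      refine ⟨k, fun x hx => (hker _).mp ?_⟩
      have e := congrArg (fun f : AddMonoid.End (Additive V) => ((Additive.toMul (f (cls x hx)) : V) : G ⧸ Nn))
        ((map_pow ρ (⟨h, hh⟩ : H) (p ^ k)).trans hk)
      rw [map_mul, map_mul, map_mul, map_inv, map_inv, mul_inv_eq_one]
      exact (hρ _ _).symm.trans e)
    have hA2 : ∀ w, A (A w) = 0 := fun w => by rw [← end_mul_apply, hA]; rfl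
    obtain ⟨w, hw⟩ : ∃ w, ∀ n : ℕ, (z ^ n) (A w) ≠ 0 := by
      by_contra hno
      push Not at hno
      obtain ⟨n1, h1⟩ := hno v
      obtain ⟨n2, h2⟩ := hno (Bq v)
      refine hv (n1 + n2 + 1) ?_
      have hzA' : ∀ m w, (z ^ m) (A (Bq w) + Bq (A w)) = (z ^ (m + 1)) w := fun m w => by
        rw [pow_succ, end_mul_apply]; rfl
      have e1 : (z ^ (n1 + n2)) (A (Bq v)) = 0 := by
        rw [pow_add, end_mul_apply, h2, map_zero]
      have e2 : (z ^ (n1 + n2)) (Bq (A v)) = 0 := by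
        have hzB : Commute z Bq := by
          show z * Bq = Bq * z
          rw [hz, add_mul, mul_add, mul_assoc A, hBq, mul_zero, ← mul_assoc Bq Bq, hBq, zero_mul, add_zero, zero_add, mul_assoc]
        rw [← end_mul_apply, (hzB.pow_left _).eq, end_mul_apply, add_comm, pow_add, end_mul_apply, h1, map_zero, map_zero]
      rw [← hzA', map_add, e1, e2, add_zero]
    obtain ⟨x, hx, rfl⟩ := hcls w
    have hy' : a * x * a⁻¹ * x⁻¹ ∈ B := mul_mem (Normal.conj_mem ‹B.Normal› x hx a) (B.inv_mem hx)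
    have e1 : A (cls x hx) = cls _ hy' := hext _ _ ((hsub a' x hx).trans rfl)
    refine ⟨x, hx, core _ hy' (fun n => e1 ▸ hw n) ⟨0, ?_⟩⟩
    rw [← e1, hA2]; simp

end Cfsg.Agent.H1.Glauberman
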