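import Cfsg.Agent.H1.Glauberman.Local
import Cfsg.Agent.H1.Glauberman.Pair

/-!
The groups generated by conjugates of `Z(J(S))` that commute modulo the centre, together with the largest
`p`-group normalizing one of them inside the normalizer of `Z(J(S))`.
-/

set_option autoImplicit false

namespace Cfsg.Agent.H1.Glauberman

open Subgroup Cfsg.Agent.Thompson
open H48 (cj limg IsSylowIn cj_le cj_mono cj_cj cj_one card_cj cj_inv_cj cj_cj_inv mem_cj conj_mem_cj
  cj_eq_of_mem_normalizer mem_normalizer_of_cj_eq cj_eq_self_of_le isPGroup_cj eq_of_le_of_card_le)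

universe u

variable {p : ℕ} {G : Type u} [Group G]

/-- `Z(J(S))` -/
abbrev wz (S : Sylow p G) : Subgroup G := zjay 0 (S : Subgroup G)

/-- the normalizer of `Z(J(S))` -/
abbrev wn (S : Sylow p G) : Subgroup G := normalizer (wz S : Set G)

/-- the central elements of `S` -/
def zc (S : Sylow p G) : Subgroup G := center G ⊓ (S : Subgroup G)

instance zc_normal (S : Sylow p G) : (zc S).Normal :=
  ⟨fun x hx g => by rwa [mem_center_iff.mp hx.1 g, mul_inv_cancel_right]⟩

theorem comm_closure {Z : Subgroup G} [Z.Normal] {s : Set G}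
    (h : ∀ a ∈ s, ∀ b ∈ s, a * b * a⁻¹ * b⁻¹ ∈ Z) :
    ∀ x ∈ closure s, ∀ y ∈ closure s, x * y * x⁻¹ * y⁻¹ ∈ Z := by
  set π := QuotientGroup.mk' Z
  have hπ : ∀ x y : G, x * y * x⁻¹ * y⁻¹ ∈ Z ↔ π x * π y = π y * π x := fun x y => by
    rw [← QuotientGroup.eq_one_iff]
    show π (x * y * x⁻¹ * y⁻¹) = 1 ↔ _
    rw [map_mul, map_mul, map_mul, map_inv, map_inv, mul_inv_eq_one, mul_inv_eq_iff_eq_mul]
  intro x hx y hy
  have h1 : ∀ a ∈ s, closure s ≤ (centralizer ({π a} : Set (G ⧸ Z))).comap π := fun a ha =>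
    (closure_le _).mpr fun b hb => mem_centralizer_singleton_iff.mpr ((hπ b a).mp (h b hb a ha))
  have h2 : closure s ≤ (centralizer ({π y} : Set (G ⧸ Z))).comap π :=
    (closure_le _).mpr fun a ha => mem_centralizer_singleton_iff.mpr
      (mem_centralizer_singleton_iff.mp (h1 a ha hy : π y ∈ centralizer {π a})).symm
  exact (hπ x y).mpr (mem_centralizer_singleton_iff.mp (h2 hx))

theorem mem_normalizer_inf {x : G} {A B : Subgroup G} (hA : x ∈ normalizer (A : Set G))
    (hB : x ∈ normalizer (B : Set G)) : x ∈ normalizer ((A ⊓ B : Subgroup G) : Set G) :=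
  mem_normalizer_of_cj_eq (by rw [H48.cj_inf, cj_eq_of_mem_normalizer hA, cj_eq_of_mem_normalizer hB])

theorem mem_normalizer_closure [Finite G] {s : Set G} {c : G} (h : ∀ x ∈ s, c * x * c⁻¹ ∈ s) :
    c ∈ normalizer (closure s : Set G) :=
  mem_normalizer_of_cj_eq (cj_eq_self_of_le (by
    rw [cj, MonoidHom.map_closure]
    exact closure_mono (by rintro _ ⟨x, hx, rfl⟩; exact h x hx)))

theorem isPGroup_zpowers {d : G} (h : ∃ k : ℕ, d ^ p ^ k = 1) : IsPGroup p (zpowers d) := by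
  obtain ⟨k, hk⟩ := h
  rintro ⟨_, i, rfl⟩
  refine ⟨k, Subtype.ext ?_⟩
  show (d ^ i) ^ p ^ k = 1
  rw [← zpow_natCast (d ^ i), ← _root_.zpow_mul, mul_comm, _root_.zpow_mul, zpow_natCast, hk, one_zpow]

theorem exists_pow_eq_one_of_mem {P : Subgroup G} (hP : IsPGroup p P) {x : G} (hx : x ∈ P) :
    ∃ k : ℕ, x ^ p ^ k = 1 := by
  obtain ⟨k, hk⟩ := hP ⟨x, hx⟩
  exact ⟨k, congrArg Subtype.val hk⟩

variable [Finite G] [Fact p.Prime] {S : Sylow p G}

omit [Fact p.Prime] in
theorem zc_le_conj (g : G) : zc S ≤ cj g (wz S) := fun x hx => by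
  refine mem_cj.mpr ?_
  rw [show g⁻¹ * x * g = x by rw [mul_assoc, ← mem_center_iff.mp hx.1 g, inv_mul_cancel_left]]
  rw [wz, zjay_eq_inf_centralizer]
  exact ⟨hx.2, mem_centralizer_iff.mpr fun j _ => mem_center_iff.mp hx.1 j⟩

omit [Fact p.Prime] in
theorem zc_le_wz : zc S ≤ wz S := by
  have h := zc_le_conj (S := S) (1 : G)
  rwa [cj_one] at h

omit [Finite G] [Fact p.Prime] in
theorem mem_zc_of_mem_conj {g y : G} (hy : y ∈ cj g (wz S)) (hc : y ∈ center G) : y ∈ zc S := by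
  refine ⟨hc, ?_⟩
  have h := zjay_le (mem_cj.mp hy)
  rwa [mul_assoc, ← mem_center_iff.mp hc g, inv_mul_cancel_left] at h

omit [Finite G] [Fact p.Prime] in
theorem not_mem_center_of_not_mem_zc {g y : G} (hy : y ∈ cj g (wz S)) (hn : y ∉ zc S) : y ∉ center G :=
  fun hc => hn (mem_zc_of_mem_conj hy hc)

omit [Finite G] [Fact p.Prime] in
theorem sylow_le_wn : (S : Subgroup G) ≤ wn S := le_normalizer_zjay 0 _

/-- mutually normalizing conjugates of `Z(J(S))` in a `p`-group commute modulo the centre -/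
theorem Ctx.comm_conj (hc : Ctx p S) {g g' : G} {P : Subgroup G} (hP : IsPGroup p P)
    (hg : cj g (wz S) ≤ P) (hg' : cj g' (wz S) ≤ P)
    (h1 : cj g (wz S) ≤ normalizer (cj g' (wz S) : Set G))
    (h2 : cj g' (wz S) ≤ normalizer (cj g (wz S) : Set G))
    {x y : G} (hx : x ∈ cj g (wz S)) (hy : y ∈ cj g' (wz S)) : x * y * x⁻¹ * y⁻¹ ∈ zc S := by
  have hl : x * y * x⁻¹ * y⁻¹ ∈ cj g (wz S) := by
    rw [show x * y * x⁻¹ * y⁻¹ = x * (y * x⁻¹ * y⁻¹) by group]
    exact mul_mem hx ((mem_normalizer_iff.mp (h2 hy) _).mp (inv_mem hx))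
  have hr : x * y * x⁻¹ * y⁻¹ ∈ cj g' (wz S) :=
    mul_mem ((mem_normalizer_iff.mp (h1 hx) _).mp hy) (inv_mem hy)
  by_contra hz
  have he := hc.ti hP hg hg' hl hr (not_mem_center_of_not_mem_zc hl hz)
  have hy' : y ∈ cj g (wz S) := by rw [he]; exact hy
  rw [wz, ← zjay_cj] at hx hy'
  rw [zjay_comm hx hy'] at hz
  exact hz (by simp [one_mem])

/-- a member of the family -/
structure Member (S : Sylow p G) (B : Subgroup G) : Prop where
  le : wz S ≤ B
  isPGroup : IsPGroup p B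
  comm : ∀ x ∈ B, ∀ y ∈ B, x * y * x⁻¹ * y⁻¹ ∈ zc S
  not_le : ¬ normalizer (B : Set G) ≤ wn S

omit [Fact p.Prime] in
theorem Member.zc_le {B : Subgroup G} (hB : Member S B) : zc S ≤ B := zc_le_wz.trans hB.le

omit [Fact p.Prime] in
theorem Member.le_normalizer_conj {B : Subgroup G} (hB : Member S B) {g : G} (hg : cj g (wz S) ≤ B) :
    B ≤ normalizer (cj g (wz S) : Set G) := fun x hx =>
  mem_normalizer_of_cj_eq (cj_eq_self_of_le (cj_le.mpr fun v hv => by
    have h := mul_mem (zc_le_conj g (hB.comm x hx v (hg hv))) hv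
    simpa using h))

omit [Fact p.Prime] in
theorem Member.le_wn {B : Subgroup G} (hB : Member S B) : B ≤ wn S := by
  have h := hB.le_normalizer_conj (g := 1) (by rw [cj_one]; exact hB.le)
  rwa [cj_one] at h

theorem member_of_closure (hc : Ctx p S) {s : Set G} {P : Subgroup G} (hP : IsPGroup p P)
    (hs : ∀ g ∈ s, cj g (wz S) ≤ P) (hone : (1 : G) ∈ s)
    (hnorm : ∀ g ∈ s, ∀ g' ∈ s, cj g (wz S) ≤ normalizer (cj g' (wz S) : Set G))
    (hnot : ¬ normalizer (closure (⋃ g ∈ s, (cj g (wz S) : Set G)) : Set G) ≤ wn S) :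
    Member S (closure (⋃ g ∈ s, (cj g (wz S) : Set G))) where
  le x hx := subset_closure (Set.mem_biUnion hone (by simpa using hx))
  isPGroup := hP.to_le ((closure_le _).mpr (Set.iUnion₂_subset fun g hg => hs g hg))
  comm := comm_closure fun a ha b hb => by
    obtain ⟨g, hg, ha⟩ := Set.mem_iUnion₂.mp ha
    obtain ⟨g', hg', hb⟩ := Set.mem_iUnion₂.mp hb
    exact hc.comm_conj hP (hs g hg) (hs g' hg') (hnorm g hg g' hg') (hnorm g' hg' g hg) ha hb
  not_le := hnot

omit [Fact p.Prime] in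
/-- left translation stabilizes the group generated by the conjugates -/
theorem mem_normalizer_closure_conj {s : Set G} {n : G} (hn : ∀ g ∈ s, ∃ g' ∈ s, cj (n * g) (wz S) = cj g' (wz S)) :
    n ∈ normalizer (closure (⋃ g ∈ s, (cj g (wz S) : Set G)) : Set G) :=
  mem_normalizer_closure fun x hx => by
    obtain ⟨g, hg, hx⟩ := Set.mem_iUnion₂.mp hx
    obtain ⟨g', hg', he⟩ := hn g hg
    refine Set.mem_biUnion hg' ?_
    rw [SetLike.mem_coe, ← he, ← cj_cj]
    exact conj_mem_cj hx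

/-- a `p`-group with normalizer outside `N(W)` gives a member -/
theorem exists_member_of (hc : Ctx p S) {R : Subgroup G} (hR : IsPGroup p R) (hWR : wz S ≤ R)
    (hRn : R ≤ wn S) (hnot : ¬ normalizer (R : Set G) ≤ wn S) :
    ∃ B, Member S B ∧ normalizer (R : Set G) ≤ normalizer (B : Set G) := by
  have hle : normalizer (R : Set G) ≤
      normalizer (closure (⋃ g ∈ (normalizer (R : Set G) : Set G), (cj g (wz S) : Set G)) : Set G) := fun n hn =>
    mem_normalizer_closure_conj fun g hg => ⟨n * g, mul_mem hn hg, rfl⟩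
  have hin : ∀ g ∈ (normalizer (R : Set G) : Set G), cj g (wz S) ≤ R := fun g hg =>
    (cj_mono hWR).trans (cj_eq_of_mem_normalizer hg).le
  have hnrm : ∀ g ∈ (normalizer (R : Set G) : Set G), R ≤ normalizer (cj g (wz S) : Set G) := fun g hg => by
    rw [← H48.cj_normalizer]
    exact (cj_eq_of_mem_normalizer hg).ge.trans (cj_mono hRn)
  exact ⟨_, member_of_closure hc hR hin (one_mem _) (fun g hg g' hg' => (hin g hg).trans (hnrm g' hg'))
    fun h => hnot (hle.trans h), hle⟩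

theorem exists_member (hc : Ctx p S) (h : ∃ g : G, cj g (wz S) ≤ (S : Subgroup G) ∧ cj g (wz S) ≠ wz S) :
    ∃ B, Member S B := by
  obtain ⟨g, ⟨hgS, hgW⟩, hmax⟩ := Set.exists_max_image {g : G | cj g (wz S) ≤ (S : Subgroup G) ∧ cj g (wz S) ≠ wz S}
    (fun g => Nat.card ↥((S : Subgroup G) ⊓ normalizer (cj g (wz S) : Set G))) (Set.toFinite _) h
  set R := (S : Subgroup G) ⊓ normalizer (cj g (wz S) : Set G) with hR
  have hne : R ≠ (S : Subgroup G) := by
    intro he
    have hSN : (S : Subgroup G) ≤ normalizer (cj g (wz S) : Set G) := inf_eq_left.mp he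
    have hS1 : IsSylowIn p (S : Subgroup G) (normalizer (cj g (wz S) : Set G)) :=
      ⟨hSN, S.isPGroup', fun hd => S.not_dvd_index (hd.trans (relIndex_dvd_index_of_le hSN))⟩
    have hS2 : cj g (S : Subgroup G) ≤ normalizer (cj g (wz S) : Set G) := by
      rw [← H48.cj_normalizer]; exact cj_mono sylow_le_wn
    obtain ⟨m, hm, hmS⟩ := hS1.exists_cj_le (isPGroup_cj S.isPGroup') hS2
    rw [cj_cj] at hmS
    have h1 : cj (m * g) (S : Subgroup G) = (S : Subgroup G) := cj_eq_self_of_le hmS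
    have h2 : cj (m * g) (wz S) = wz S := by rw [wz, ← zjay_cj, h1]
    refine hgW ?_
    rw [← cj_eq_of_mem_normalizer hm, cj_cj]; exact h2
  have hlt := H48.card_lt_card_inf_normalizer S.isPGroup' (inf_le_left : R ≤ S) hne
  obtain ⟨y, hy, hyR⟩ : ∃ y, y ∈ (S : Subgroup G) ⊓ normalizer (R : Set G) ∧ y ∉ normalizer (cj g (wz S) : Set G) := by
    by_contra hno
    push Not at hno
    exact absurd (Subgroup.card_le_of_le (le_inf inf_le_left fun x hx => hno x hx :
      (S : Subgroup G) ⊓ normalizer (R : Set G) ≤ R)) (not_le.mpr hlt)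
  obtain ⟨B, hB, -⟩ := exists_member_of hc (R := cj g⁻¹ R) (isPGroup_cj (S.isPGroup'.to_le inf_le_left))
    (by rw [← cj_inv_cj g (wz S)]; exact cj_mono (le_inf hgS le_normalizer))
    (by rw [wn, ← cj_inv_cj g (wz S), ← H48.cj_normalizer]; exact cj_mono inf_le_right)
    (fun hle => hyR (by
      have hm : g⁻¹ * y * g ∈ normalizer (cj g⁻¹ R : Set G) := by
        rw [← H48.cj_normalizer]
        simpa using (conj_mem_cj (g := g⁻¹) hy.2)
      have h2 : g⁻¹ * y * g ∈ wn S := hle hm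
      rw [← H48.cj_normalizer]
      exact mem_cj.mpr h2))
  exact ⟨B, hB⟩

/-- `R` is a largest `p`-subgroup of `S` normalizing a member -/
structure Base (S : Sylow p G) (R : Subgroup G) : Prop where
  le : R ≤ (S : Subgroup G)
  max : ∀ C T : Subgroup G, Member S C → IsPGroup p T → T ≤ normalizer (C : Set G) ⊓ wn S →
    Nat.card T ≤ Nat.card R
  ex : ∃ C, Member S C ∧ R ≤ normalizer (C : Set G)

theorem exists_base {B : Subgroup G} (hB : Member S B) : ∃ R, Base S R := by
  obtain ⟨⟨C, T⟩, ⟨hC, hT, hTC⟩, hmax⟩ := Set.exists_max_image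
    {x : Subgroup G × Subgroup G | Member S x.1 ∧ IsPGroup p x.2 ∧ x.2 ≤ normalizer (x.1 : Set G) ⊓ wn S}
    (fun x => Nat.card x.2) (Set.toFinite _) ⟨(B, ⊥), hB, IsPGroup.of_bot, bot_le⟩
  have hS : IsSylowIn p (S : Subgroup G) (wn S) :=
    ⟨sylow_le_wn, S.isPGroup', fun hd => S.not_dvd_index (hd.trans (relIndex_dvd_index_of_le sylow_le_wn))⟩
  obtain ⟨h, hh, hle⟩ := hS.exists_cj_le hT (hTC.trans inf_le_right)
  have hW : cj h (wz S) = wz S := cj_eq_of_mem_normalizer hh
  refine ⟨cj h T, hle, fun C' T' h1 h2 h3 => (card_cj h T).symm ▸ hmax (C', T') ⟨h1, h2, h3⟩, cj h C,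
    ⟨hW.ge.trans (cj_mono hC.le), isPGroup_cj hC.isPGroup, fun x hx y hy => ?_, fun hle' => hC.not_le ?_⟩, ?_⟩
  · have h1 := hC.comm _ (mem_cj.mp hx) _ (mem_cj.mp hy)
    have := Normal.conj_mem (zc_normal S) _ h1 h
    convert this using 1
    group
  · have h1 := cj_mono (g := h⁻¹) ((H48.cj_normalizer h C).le.trans hle')
    rw [cj_inv_cj] at h1
    exact h1.trans (cj_eq_of_mem_normalizer (inv_mem (le_normalizer hh))).le
  · rw [← H48.cj_normalizer]; exact cj_mono (hTC.trans inf_le_left)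

/-- a member normalized by `R` -/
def RMem (S : Sylow p G) (R C : Subgroup G) : Prop := Member S C ∧ R ≤ normalizer (C : Set G)

variable {R C : Subgroup G}

omit [Fact p.Prime] in
theorem Base.eq_of_le (hR : Base S R) (hC : RMem S R C) {T : Subgroup G} (hT : IsPGroup p T)
    (hle : T ≤ normalizer (C : Set G) ⊓ wn S) (hRT : R ≤ T) : R = T :=
  eq_of_le_of_card_le hRT (hR.max C T hC.1 hT hle)

theorem Base.le_inf_wn (hR : Base S R) (hC : RMem S R C) : R ≤ normalizer (C : Set G) ⊓ wn S :=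
  le_inf hC.2 (hR.le.trans sylow_le_wn)

theorem Base.member_le (hR : Base S R) (hC : RMem S R C) : C ≤ R := by
  have h := hR.eq_of_le hC ((S.isPGroup'.to_le hR.le).to_sup_of_normal_right' hC.1.isPGroup hC.2 : IsPGroup p ↥(R ⊔ C))
    (sup_le (hR.le_inf_wn hC) (le_inf le_normalizer hC.1.le_wn)) le_sup_left
  rw [h]; exact le_sup_right

theorem Base.eq_inf (hR : Base S R) (hC : RMem S R C) : R = (S : Subgroup G) ⊓ normalizer (C : Set G) :=
  hR.eq_of_le hC (S.isPGroup'.to_le inf_le_left) (le_inf inf_le_right (inf_le_left.trans sylow_le_wn))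
    (le_inf hR.le hC.2)

theorem Base.sylow_wn (hR : Base S R) (hC : RMem S R C) : IsSylowIn p R (normalizer (C : Set G) ⊓ wn S) := by
  obtain ⟨T, hT, hRT⟩ := H48.exists_isSylowIn_ge (S.isPGroup'.to_le hR.le) (hR.le_inf_wn hC)
  rwa [hR.eq_of_le hC hT.isPGroup hT.le hRT]

theorem Base.normalizer_le (hR : Base S R) (hc : Ctx p S) : normalizer (R : Set G) ≤ wn S := by
  obtain ⟨C, hC⟩ := hR.ex
  by_cases hRS : R = (S : Subgroup G)
  · rw [hRS]
    exact (normalizer_le_normalizer_jay 0 _).trans (normalizer_jay_le_normalizer_zjay 0 _)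
  by_contra hno
  obtain ⟨B, hB, hle⟩ := exists_member_of hc (S.isPGroup'.to_le hR.le) (hC.1.le.trans (hR.member_le hC))
    (hR.le.trans sylow_le_wn) hno
  refine absurd (hR.max B ((S : Subgroup G) ⊓ normalizer (R : Set G)) hB (S.isPGroup'.to_le inf_le_left)
    (le_inf (inf_le_right.trans hle) (inf_le_left.trans sylow_le_wn))) (not_le.mpr ?_)
  exact H48.card_lt_card_inf_normalizer S.isPGroup' hR.le hRS

theorem Base.sylow (hR : Base S R) (hc : Ctx p S) (hC : RMem S R C) :
    IsSylowIn p R (normalizer (C : Set G)) := by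
  obtain ⟨T, hT, hRT⟩ := H48.exists_isSylowIn_ge (S.isPGroup'.to_le hR.le) hC.2
  by_cases he : R = T
  · rwa [he]
  have hlt := H48.card_lt_card_inf_normalizer hT.isPGroup hRT he
  refine absurd (hR.max C _ hC.1 (hT.isPGroup.to_le inf_le_left)
    (le_inf (inf_le_left.trans hT.le) (inf_le_right.trans (hR.normalizer_le hc)))) (not_le.mpr hlt)

end Cfsg.Agent.H1.Glauberman
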