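import Cfsg.Agent.H1.Glauberman.Member

/-!
In a member, the elements acting quadratically generate inside `R` a group fixing some conjugate of
`Z(J(S))` other than `Z(J(S))` itself; otherwise the conclusion of the theorem holds.
-/

set_option autoImplicit false

namespace Cfsg.Agent.H1.Glauberman

open Subgroup Cfsg.Agent.Thompson
open H48 (cj limg IsSylowIn cj_le cj_mono cj_cj cj_one card_cj cj_inv_cj cj_cj_inv mem_cj conj_mem_cj
  cj_eq_of_mem_normalizer mem_normalizer_of_cj_eq cj_eq_self_of_le isPGroup_cj eq_of_le_of_card_le)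

universe u

variable {p : ℕ} {G : Type u} [Group G]

/-- the `p`-elements of `N(C)` acting quadratically on `C` modulo the centre -/
def quadSet (S : Sylow p G) (C : Subgroup G) : Set G :=
  {d | d ∈ normalizer (C : Set G) ∧ (∃ k : ℕ, d ^ p ^ k = 1) ∧ IsQuad (zc S) C d}

/-- generated by those in `R` -/
def quadGen (S : Sylow p G) (R C : Subgroup G) : Subgroup G :=
  closure (quadSet S C ∩ (R : Set G))

variable {S : Sylow p G} {R C : Subgroup G}

theorem quadSet_conj {d g : G} (hd : d ∈ quadSet S C) (hg : g ∈ normalizer (C : Set G)) :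
    g * d * g⁻¹ ∈ quadSet S C := by
  obtain ⟨hdC, ⟨k, hk⟩, hq⟩ := hd
  refine ⟨mul_mem (mul_mem hg hdC) (inv_mem hg), ⟨k, by rw [conj_pow, hk, mul_one, mul_inv_cancel]⟩, fun x hx => ?_⟩
  have hx' : g⁻¹ * x * g ∈ C := by
    have := (mem_normalizer_iff.mp (inv_mem hg) x).mp hx
    rwa [inv_inv] at this
  have h1 := Normal.conj_mem (zc_normal S) _ (hq _ hx') g
  convert h1 using 1
  group

theorem quadGen_le : quadGen S R C ≤ R := (closure_le _).mpr Set.inter_subset_right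

theorem quadGen_le_normalizer : quadGen S R C ≤ normalizer (C : Set G) :=
  (closure_le _).mpr fun _ hx => hx.1.1

theorem mem_quadGen {d : G} (hd : d ∈ quadSet S C) (hR : d ∈ R) : d ∈ quadGen S R C :=
  subset_closure ⟨hd, hR⟩

theorem quadGen_cj {g : G} (hg : g ∈ normalizer (C : Set G)) :
    cj g (quadGen S R C) = closure (quadSet S C ∩ (cj g R : Set G)) := by
  rw [quadGen, cj, MonoidHom.map_closure]
  congr 1
  ext x
  constructor
  · rintro ⟨d, ⟨hd, hdR⟩, rfl⟩
    exact ⟨quadSet_conj hd hg, conj_mem_cj hdR⟩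
  · rintro ⟨hd, d, hdR, rfl⟩
    refine ⟨d, ⟨?_, hdR⟩, rfl⟩
    simpa [mul_assoc] using quadSet_conj hd (inv_mem hg)

theorem Member.subset_quadSet [Finite G] (hC : Member S C) : (C : Set G) ⊆ quadSet S C := by
  intro x hx
  refine ⟨le_normalizer hx, exists_pow_eq_one_of_mem hC.isPGroup hx, fun y hy => hC.comm x hx _ ?_⟩
  exact mul_mem (mul_mem (mul_mem hx hy) (C.inv_mem hx)) (C.inv_mem hy)

variable [Finite G] [Fact p.Prime]

theorem exists_moved {W0 : Subgroup G} {C0 : Subgroup G} (hC0 : ∀ x, x ∈ C0 ↔ x ∈ C ∧ x ^ p ∈ zc S)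
    (hW0 : W0 = wz S ⊓ C0) (hC : Member S C) : ∃ y ∈ W0, y ∉ zc S := by
  classical
  obtain ⟨y, hy, hyZ⟩ : ∃ y ∈ wz S, y ∉ zc S := by
    by_contra hno
    push Not at hno
    refine hC.not_le (le_top.trans ?_)
    intro g _
    refine mem_normalizer_iff.mpr fun x => ⟨fun hx => ?_, fun hx => ?_⟩
    · rw [mem_center_iff.mp (hno x hx).1 g, mul_inv_cancel_right]; exact hx
    · have e : g * x * g⁻¹ = x := by
        refine mul_right_cancel (b := g⁻¹) ?_
        rw [← mem_center_iff.mp (hno _ hx).1 g⁻¹]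
        group
      rwa [e] at hx
  obtain ⟨k, hk⟩ := exists_pow_eq_one_of_mem (hC.isPGroup.to_le hC.le) hy
  have hex : ∃ k, y ^ p ^ k ∈ zc S := ⟨k, by rw [hk]; exact one_mem _⟩
  have h0 : Nat.find hex ≠ 0 := fun h => hyZ (by simpa [h] using Nat.find_spec hex)
  obtain ⟨j, hj⟩ := Nat.exists_eq_succ_of_ne_zero h0
  refine ⟨y ^ p ^ j, ?_, Nat.find_min hex (by omega)⟩
  rw [hW0]
  refine ⟨pow_mem hy _, (hC0 _).mpr ⟨pow_mem (hC.le hy) _, ?_⟩⟩
  rw [← pow_mul, ← pow_succ]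
  have h := Nat.find_spec hex
  rwa [hj] at h

/-- **the step**: some element of `N(C)` outside `N(W)` moves `W` to a point fixed by `quadGen` -/
theorem exists_fixed_point (hc : Ctx p S) (hR : Base S R) (hC : RMem S R C) :
    ∃ l ∈ normalizer (C : Set G), l ∉ wn S ∧ quadGen S R C ≤ normalizer (cj l (wz S) : Set G) := by
  classical
  by_contra hno
  push Not at hno
  have hfix : ∀ l ∈ normalizer (C : Set G), quadGen S R C ≤ normalizer (cj l (wz S) : Set G) → l ∈ wn S :=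
    fun l hl h => by by_contra h'; exact hno l hl h' h
  have hW : ∀ l : G, cj l (wn S) = normalizer (cj l (wz S) : Set G) := fun l => H48.cj_normalizer l _
  set D := quadSet S C with hDdef
  obtain ⟨d0, hd0, hd0H⟩ : ∃ d ∈ D, d ∉ wn S := by
    by_contra hall
    push Not at hall
    refine hC.1.not_le fun l hl => hfix l hl ?_
    rw [← hW, quadGen, closure_le]
    intro d hd
    have h := hall _ (quadSet_conj hd.1 (inv_mem hl))
    exact mem_cj.mpr (by simpa using h)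
  -- the maximal group
  set f : Subgroup G → Subgroup G := fun T => closure {x | x ∈ D ∧ x ∈ wn S ∧ x ∈ T} with hf
  obtain ⟨T, ⟨hTp, hTN, d, hd, hdT, hdH⟩, hTmax⟩ := Set.exists_max_image
    {T : Subgroup G | IsPGroup p T ∧ T ≤ normalizer (C : Set G) ∧ ∃ d, d ∈ D ∧ d ∈ T ∧ d ∉ wn S}
    (fun T => Nat.card (f T)) (Set.toFinite _)
    ⟨zpowers d0, isPGroup_zpowers hd0.2.1, zpowers_le.mpr hd0.1, d0, hd0, mem_zpowers d0, hd0H⟩
  set P1 := f T with hP1def
  have hP1T : P1 ≤ T := (closure_le _).mpr fun x hx => hx.2.2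
  have hP1H : P1 ≤ wn S := (closure_le _).mpr fun x hx => hx.2.1
  have hP1N : P1 ≤ normalizer (C : Set G) := hP1T.trans hTN
  have hP1p : IsPGroup p P1 := hTp.to_le hP1T
  have hP1D : P1 = closure {x | x ∈ D ∧ x ∈ P1} := le_antisymm
    ((closure_le _).mpr fun x hx => subset_closure ⟨hx.1, subset_closure hx⟩)
    ((closure_le _).mpr fun x hx => hx.2)
  have hkey : ∀ T' : Subgroup G, IsPGroup p T' → T' ≤ normalizer (C : Set G) → P1 ≤ T' →
      (∃ d, d ∈ D ∧ d ∈ T' ∧ d ∉ wn S) → ∀ x ∈ D, x ∈ wn S → x ∈ T' → x ∈ P1 := by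
    intro T' h1 h2 h3 h4 x hx hxH hxT
    have hle : P1 ≤ f T' := (closure_le _).mpr fun z hz => subset_closure ⟨hz.1, hz.2.1, h3 (subset_closure hz)⟩
    have := eq_of_le_of_card_le hle (hTmax T' ⟨h1, h2, h4⟩)
    rw [this]
    exact subset_closure ⟨hx, hxH, hxT⟩
  have hCH : C ≤ wn S := hC.1.le_wn
  have hCP1 : C ≤ P1 := fun x hx => hkey (T ⊔ C)
    (hTp.to_sup_of_normal_right' hC.1.isPGroup hTN) (sup_le hTN le_normalizer) (hP1T.trans le_sup_left)
    ⟨d, hd, mem_sup_left hdT, hdH⟩ x (hC.1.subset_quadSet hx) (hCH hx) (mem_sup_right hx)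
  -- `c`
  obtain ⟨c, hcD, hcT, hcH, hcN⟩ : ∃ c, c ∈ D ∧ c ∈ T ∧ c ∉ wn S ∧ c ∈ normalizer (P1 : Set G) := by
    obtain ⟨x, hxD, -, hxE, hxN⟩ := exists_mem_normalizer_set (G := T) (P := ⊤) (hTp.to_subgroup ⊤)
      (D := {x | (x : G) ∈ D}) (E := {x | (x : G) ∈ D ∧ (x : G) ∈ wn S})
      (fun x hx g => quadSet_conj hx (hTN g.2)) (fun x hx => hx.1) (fun x _ => mem_top x)
      (fun e he f' hf' => ⟨quadSet_conj hf'.1 (hTN e.2),
        (wn S).mul_mem ((wn S).mul_mem he.2 hf'.2) ((wn S).inv_mem he.2)⟩)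
      ⟨⟨d, hdT⟩, hd, mem_top _, fun h => hdH h.2⟩
    exact ⟨x, hxD, x.2, fun h => hxE ⟨hxD, h⟩, mem_normalizer_closure fun z hz =>
      ⟨(hxN ⟨z, hz.2.2⟩ ⟨hz.1, hz.2.1⟩).1, (hxN ⟨z, hz.2.2⟩ ⟨hz.1, hz.2.1⟩).2,
        mul_mem (mul_mem x.2 hz.2.2) (T.inv_mem x.2)⟩⟩
  -- `a`
  obtain ⟨R1', hR1', hP1R'⟩ := H48.exists_isSylowIn_ge hP1p (le_inf hP1N hP1H)
  obtain ⟨m, hm, rfl⟩ := (hR.sylow_wn hC).exists_conj hR1'
  set R1 := cj m R with hR1def
  have hR1N : R1 ≤ normalizer (C : Set G) := hR1'.le.trans inf_le_left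
  obtain ⟨a, haD, haR, haP, haN⟩ : ∃ a, a ∈ D ∧ a ∈ R1 ∧ a ∉ P1 ∧ a ∈ normalizer (P1 : Set G) := by
    have hex : ∃ z ∈ D, z ∈ R1 ∧ z ∉ P1 := by
      by_contra hnone
      push Not at hnone
      have heq : cj m (quadGen S R C) = P1 := by
        rw [quadGen_cj hm.1]
        exact le_antisymm ((closure_le _).mpr fun z hz => hnone z hz.1 hz.2)
          ((closure_le _).mpr fun z hz => subset_closure ⟨hz.1, hP1R' (subset_closure hz)⟩)
      have hc' : m⁻¹ * c * m ∈ normalizer (quadGen S R C : Set G) := by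
        have h : c ∈ normalizer (cj m (quadGen S R C) : Set G) := by rw [heq]; exact hcN
        rw [← H48.cj_normalizer] at h
        exact mem_cj.mp h
      have hc'C : m⁻¹ * c * m ∈ normalizer (C : Set G) := mul_mem (mul_mem (inv_mem hm.1) hcD.1) hm.1
      refine hcH ?_
      have h := hfix _ hc'C (by
        rw [← hW]
        exact (cj_eq_of_mem_normalizer hc').ge.trans (cj_mono (quadGen_le.trans (hR.le.trans sylow_le_wn))))
      have h2 := (wn S).mul_mem ((wn S).mul_mem hm.2 h) ((wn S).inv_mem hm.2)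
      simpa [mul_assoc] using h2
    obtain ⟨z, hzD, hzR, hzP⟩ := hex
    obtain ⟨x, hxD, -, hxE, hxN⟩ := exists_mem_normalizer_set (G := R1) (P := ⊤) (hR1'.isPGroup.to_subgroup ⊤)
      (D := {x | (x : G) ∈ D}) (E := {x | (x : G) ∈ D ∧ (x : G) ∈ P1})
      (fun x hx g => quadSet_conj hx (hR1N g.2)) (fun x hx => hx.1) (fun x _ => mem_top x)
      (fun e he f' hf' => ⟨quadSet_conj hf'.1 (hR1N e.2),
        P1.mul_mem (P1.mul_mem he.2 hf'.2) (P1.inv_mem he.2)⟩)
      ⟨⟨z, hzR⟩, hzD, mem_top _, fun h => hzP h.2⟩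
    refine ⟨x, hxD, x.2, fun h => hxE ⟨hxD, h⟩, ?_⟩
    rw [hP1D]
    exact mem_normalizer_closure fun w hw => hxN ⟨w, hP1R' hw.2⟩ hw
  have haH : a ∈ wn S := (hR1'.le haR).2
  -- the elementary part
  let C0 : Subgroup G :=
    { carrier := {x | x ∈ C ∧ x ^ p ∈ zc S}
      one_mem' := ⟨one_mem _, by rw [one_pow]; exact one_mem _⟩
      mul_mem' := fun {x y} hx hy => ⟨mul_mem hx.1 hy.1, by
        have hcm : Commute (QuotientGroup.mk' (zc S) x) (QuotientGroup.mk' (zc S) y) := by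
          rw [Commute, SemiconjBy, ← map_mul, ← map_mul, ← mul_inv_eq_one, ← map_inv, ← map_mul]
          refine (QuotientGroup.eq_one_iff _).mpr ?_
          convert hC.1.comm x hx.1 y hy.1 using 1
          group
        refine (QuotientGroup.eq_one_iff _).mp ?_
        show QuotientGroup.mk' (zc S) ((x * y) ^ p) = 1
        rw [map_pow, map_mul, hcm.mul_pow, ← map_pow, ← map_pow,
          show QuotientGroup.mk' (zc S) (x ^ p) = 1 from (QuotientGroup.eq_one_iff _).mpr hx.2,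
          show QuotientGroup.mk' (zc S) (y ^ p) = 1 from (QuotientGroup.eq_one_iff _).mpr hy.2, one_mul]⟩
      inv_mem' := fun {x} hx => ⟨inv_mem hx.1, by rw [inv_pow]; exact inv_mem hx.2⟩ }
  have hC0C : C0 ≤ C := fun x hx => hx.1
  have hC0n : ∀ g ∈ normalizer (C : Set G), g ∈ normalizer (C0 : Set G) := fun g hg =>
    mem_normalizer_of_cj_eq (cj_eq_self_of_le (cj_le.mpr fun x hx =>
      ⟨(mem_normalizer_iff.mp hg x).mp hx.1, by rw [conj_pow]; exact Normal.conj_mem (zc_normal S) _ hx.2 g⟩))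
  set W0 := wz S ⊓ C0 with hW0def
  set L := normalizer (C : Set G) ⊓ normalizer (P1 : Set G) with hLdef
  have hC0L : C0 ≤ L := le_inf (hC0C.trans le_normalizer) ((hC0C.trans hCP1).trans le_normalizer)
  have hZC0 : zc S ≤ C0 := fun x hx => ⟨hC.1.zc_le hx, pow_mem hx p⟩
  set Nn := (zc S).subgroupOf L with hNn
  set B := C0.subgroupOf L with hBdef
  have hBn : B.Normal := normal_subgroupOf_of_le_normalizer fun g hg => hC0n g hg.1
  have hPn : (P1.subgroupOf L).Normal := normal_subgroupOf_of_le_normalizer inf_le_right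
  have hB : IsElemSection p Nn B :=
    ⟨fun x hx => hZC0 hx, fun x hx y hy => hC.1.comm x hx.1 y hy.1, fun x hx => hx.2⟩
  let a' : L := ⟨a, haD.1, haN⟩
  let c' : L := ⟨c, hcD.1, hcN⟩
  have hq : ∀ x : L, (x : G) ∈ D → IsQuad Nn B x := fun x hx v hv => hx.2.2 v (hC0C hv)
  have haW : a ∈ normalizer (W0 : Set G) := mem_normalizer_inf haH (hC0n a haD.1)
  have haW' : a' ∈ normalizer (W0.subgroupOf L : Set L) :=
    mem_normalizer_iff.mpr fun v => mem_normalizer_iff.mp haW v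
  obtain ⟨y0, hy0, hy0Z⟩ := exists_moved (C0 := C0) (fun x => Iff.rfl) hW0def hC.1
  set Y := closure ({a', c'} : Set L) with hYdef
  obtain ⟨o, hoY, hop, y, hy, hoy⟩ : ∃ o ∈ Y, (orderOf o).Coprime p ∧ ∃ y ∈ W0.subgroupOf L,
      o * y * o⁻¹ * y⁻¹ ∉ Nn := by
    by_contra hall
    push Not at hall
    have hoH : ∀ o ∈ Y, (orderOf o).Coprime p → (o : G) ∈ wn S := by
      intro o ho hop
      set z := (o : G) * y0 * (o : G)⁻¹ * y0⁻¹ with hz
      have hzZ : z ∈ zc S := hall o ho hop ⟨y0, hC0L hy0.2⟩ hy0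
      have h1 : z * y0 ∈ cj (o : G) (wz S) := by
        rw [show z * y0 = (o : G) * y0 * (o : G)⁻¹ by rw [hz]; group]
        exact conj_mem_cj hy0.1
      have h2 : z * y0 ∈ cj 1 (wz S) := by rw [cj_one]; exact mul_mem (zc_le_wz hzZ) hy0.1
      have h3 : z * y0 ∉ zc S := fun h => hy0Z (by simpa using mul_mem (inv_mem hzZ) h)
      have he := hc.ti hC.1.isPGroup ((cj_mono hC.1.le).trans (cj_eq_of_mem_normalizer o.2.1).le)
        (by rw [cj_one]; exact hC.1.le) h1 h2 (not_mem_center_of_not_mem_zc h1 h3)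
      exact mem_normalizer_of_cj_eq (he.trans (cj_one _))
    let a'' : Y := ⟨a', subset_closure (Set.mem_insert _ _)⟩
    let c'' : Y := ⟨c', subset_closure (Set.mem_insert_of_mem _ rfl)⟩
    have hpel : ∀ x : Y, (∃ k : ℕ, ((x : L) : G) ^ p ^ k = 1) → IsPGroup p (zpowers x) := fun x ⟨k, hk⟩ =>
      isPGroup_zpowers ⟨k, Subtype.ext (Subtype.ext hk)⟩
    obtain ⟨T0, hT0⟩ := (hpel a'' haD.2.1).exists_le_sylow
    obtain ⟨x, -, hxc⟩ := (H48.isSylowIn_sylow T0).exists_cj_le (hpel c'' hcD.2.1) le_top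
    obtain ⟨t, ht, o, ho, rfl⟩ := mem_sup_of_normal_right.mp ((Fusion.sylow_sup_pResidual T0).ge (mem_top x))
    have hoH' : ((o : L) : G) ∈ wn S :=
      (Fusion.pResidual_le (K := (((wn S).comap L.subtype).comap Y.subtype))).mpr
        (fun g hg => hoH g g.2 (by rwa [← orderOf_injective Y.subtype Y.subtype_injective] at hg)) ho
    have h1 : o * c'' * o⁻¹ ∈ (T0 : Subgroup Y) := by
      have := mul_mem (mul_mem ((T0 : Subgroup Y).inv_mem ht) (hxc (conj_mem_cj (mem_zpowers c'')))) ht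
      convert this using 1
      group
    set T1 := ((T0 : Subgroup Y).map Y.subtype).map L.subtype with hT1
    have hT1L : T1 ≤ L := map_subtype_le _
    have hT1p : IsPGroup p ↥(T1 ⊔ P1) :=
      ((T0.isPGroup'.map _).map _).to_sup_of_normal_right' hP1p (hT1L.trans inf_le_right)
    have hcc : ((o : L) : G) * c * ((o : L) : G)⁻¹ ∈ T1 :=
      ⟨_, ⟨_, h1, rfl⟩, rfl⟩
    have haT1 : a ∈ T1 := ⟨a', ⟨a'', hT0 (mem_zpowers a''), rfl⟩, rfl⟩
    refine haP (hkey _ hT1p (sup_le (hT1L.trans inf_le_left) hP1N) le_sup_right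
      ⟨_, quadSet_conj hcD (o : L).2.1, mem_sup_left hcc, fun h => hcH ?_⟩ a haD haH (mem_sup_left haT1))
    have := mul_mem (mul_mem (inv_mem hoH') h) hoH'
    simpa [mul_assoc] using this
  obtain ⟨u, hu, N, e, hpl, htor⟩ := (exists_planes hc.odd hB (hq a' haD) (hq c' hcD)).1
    (W0.subgroupOf L) (fun v hv => (hv : (v : G) ∈ W0).2) haW' ⟨o, hoY, hop, y, hy, hoy⟩
  obtain ⟨n, hn⟩ := exists_isPrimitive p
  have hnd := hn.not_dvd hc.odd
  have hnn : n * n ^ (p - 2) ≡ 1 [MOD p] := by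
    rw [← pow_succ', show p - 2 + 1 = p - 1 by have := (Fact.out : p.Prime).two_le; omega]
    have h := ZMod.pow_card_sub_one_eq_one (p := p) (a := (n : ZMod p)) (by rwa [Ne, ZMod.natCast_eq_zero_iff])
    exact (ZMod.natCast_eq_natCast_iff _ _ p).mp (by simpa using h)
  obtain ⟨h, -, hh⟩ := htor n (n ^ (p - 2)) hnn
  obtain ⟨ka, hka⟩ := haD.2.1
  have hsyl : ∀ T' : Subgroup G, IsPGroup p T' → P1 ≤ T' → a ∈ T' →
      ∀ l ∈ normalizer (C : Set G), T' ≤ cj l R → l ∈ wn S := by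
    intro T' hT' hPT haT l hl hle
    have hlR : IsPGroup p (cj l R) := isPGroup_cj (S.isPGroup'.to_le hR.le)
    have hlN : cj l R ≤ normalizer (C : Set G) :=
      (cj_mono hC.2).trans (cj_eq_of_mem_normalizer (le_normalizer hl)).le
    have hall : ∀ z ∈ D, z ∈ cj l R → z ∈ wn S := fun z hz hzR => by
      by_contra hzH
      exact haP (hkey _ hlR hlN (hPT.trans hle) ⟨z, hz, hzR, hzH⟩ a haD haH (hle haT))
    have h1 : l⁻¹ ∈ wn S := hfix _ (inv_mem hl) (by
      rw [← hW, ← cj_inv_cj l (quadGen S R C)]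
      refine cj_mono ?_
      rw [quadGen_cj hl]
      exact (closure_le _).mpr fun z hz => hall z hz.1 hz.2)
    simpa using inv_mem h1
  obtain ⟨k, hkH, hk⟩ := exists_torus_mem hpl ((wn S).subgroupOf L) (P1.subgroupOf L)
    (hP1p.comap_subtype) (fun v hv => hP1H hv) ⟨ka, Subtype.ext hka⟩ (fun T' hT' hPT haT n' hn' => by
      obtain ⟨T2, hT2, hT2le⟩ := H48.exists_isSylowIn_ge (hT'.map L.subtype)
        ((map_subtype_le T').trans inf_le_left)
      obtain ⟨l, hl, hlT⟩ := (hR.sylow hc hC).exists_conj hT2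
      have hP1' : P1 ≤ T'.map L.subtype := fun v hv =>
        ⟨⟨v, hP1N hv, le_normalizer hv⟩, hPT hv, rfl⟩
      have h1 := hsyl _ (hT'.map L.subtype) hP1' ⟨a', haT, rfl⟩ l hl (hT2le.trans hlT.ge)
      have hn'' : (n' : G) ∈ normalizer (T'.map L.subtype : Set G) :=
        T'.le_normalizer_map L.subtype (mem_map_of_mem _ hn')
      have h2 := hsyl _ (hT'.map L.subtype) hP1' ⟨a', haT, rfl⟩ ((n' : G) * l) (mul_mem n'.2.1 hl) (by
        rw [← cj_eq_of_mem_normalizer hn'', ← cj_cj, hlT]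
        exact cj_mono hT2le)
      show (n' : G) ∈ wn S
      simpa using mul_mem h2 (inv_mem h1)) hh
  have hsec : HasSection (fOver (ZMod p)) (wn S) := by
    refine HasSection.of_injective (f := MonoidHom.mk' (fun x : (wn S).subgroupOf L => (⟨((x : L) : G), x.2⟩ : wn S))
      fun x y => rfl) (fun x y hxy => Subtype.ext (Subtype.ext (congrArg (fun z : wn S => (z : G)) hxy))) ?_
    exact hasSection_of_plane hc.odd hpl _ (fun v hv => hCH (hC0C hv)) haH hkH hn hnn hk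
  set Y' := W0 ⊓ N.map L.subtype with hY'
  have hkW : (k : G) ∈ normalizer (W0 : Set G) := mem_normalizer_inf hkH (hC0n _ k.2.1)
  obtain ⟨c0, hc0, hord, k0, hk0, he⟩ := exists_eigen (p := p) (Y := W0) (Y' := Y')
    (isMulCommutative_iff_forall.mpr fun x hx y hy => zjay_comm hx.1 hy.1)
    (hC.1.isPGroup.to_le (inf_le_right.trans hC0C)) inf_le_left hkW
    (mem_normalizer_inf hkW (N.le_normalizer_map L.subtype (mem_map_of_mem _ hk.norm)))
    (u := (u : G)) hu (fun h => hpl.u_not (by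
      obtain ⟨v, hv, hvu⟩ := h.2
      rwa [show v = u from Subtype.ext hvu] at hv))
    ⟨pow_mem hu _, u ^ p, hpl.ge (hB.pow u hpl.u_mem), map_pow L.subtype u p⟩ hnd
    ⟨mul_mem ((mem_normalizer_iff.mp hkW _).mp hu) (W0.inv_mem (W0.pow_mem hu _)), k * u * k⁻¹ * (u ^ n)⁻¹, hk.act_u, rfl⟩
  have hkH' : (k : G) ∈ wn S := hkH
  exact hc.no ⟨hsec, c0, hc0.1, hord, k0, zpowers_le.mpr hkH' hk0, n, hn, he⟩

/-- the elements of `N(C)` normalizing `quadGen` are transitive on the fixed points -/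
theorem exists_transitive (hR : Base S R) (hC : RMem S R C) {l : G}
    (hl : l ∈ normalizer (C : Set G)) (hlP : quadGen S R C ≤ normalizer (cj l (wz S) : Set G)) :
    ∃ l' ∈ normalizer (C : Set G) ⊓ normalizer (quadGen S R C : Set G), cj l' (wz S) = cj l (wz S) := by
  set P := quadGen S R C with hP
  have hT := (hR.sylow_wn hC).cj l
  rw [H48.cj_inf, cj_eq_of_mem_normalizer (le_normalizer hl), H48.cj_normalizer] at hT
  obtain ⟨T2, hT2, hPT2⟩ := H48.exists_isSylowIn_ge ((S.isPGroup'.to_le hR.le).to_le quadGen_le)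
    (le_inf quadGen_le_normalizer hlP : P ≤ normalizer (C : Set G) ⊓ normalizer (cj l (wz S) : Set G))
  obtain ⟨x, hx, hxT⟩ := hT.exists_conj hT2
  rw [cj_cj] at hxT
  have hxl : x * l ∈ normalizer (C : Set G) := mul_mem hx.1 hl
  refine ⟨x * l, ⟨hxl, mem_normalizer_of_cj_eq ?_⟩, by rw [← cj_cj, cj_eq_of_mem_normalizer hx.2]⟩
  refine (eq_of_le_of_card_le ?_ (card_cj _ _).le).symm
  rw [quadGen_cj hxl, hxT]
  exact (closure_le _).mpr fun d hd => subset_closure ⟨hd.1, hPT2 (subset_closure hd)⟩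

/-- the elements of `N(C)` normalizing `quadGen` -/
abbrev mover (S : Sylow p G) (R C : Subgroup G) : Subgroup G :=
  normalizer (C : Set G) ⊓ normalizer (quadGen S R C : Set G)

theorem mover_not_le (hc : Ctx p S) (hR : Base S R) (hC : RMem S R C) : ¬ mover S R C ≤ wn S := by
  intro hle
  obtain ⟨l, hl, hlH, hlP⟩ := exists_fixed_point hc hR hC
  obtain ⟨l', hl', he⟩ := exists_transitive hR hC hl hlP
  refine hlH (mem_normalizer_of_cj_eq ?_)
  rw [← he]
  exact cj_eq_of_mem_normalizer (hle hl')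

theorem le_mover (hC : RMem S R C) : R ≤ mover S R C := fun r hr =>
  ⟨hC.2 hr, mem_normalizer_closure fun d hd => ⟨quadSet_conj hd.1 (hC.2 hr), R.mul_mem (R.mul_mem hr hd.2) (R.inv_mem hr)⟩⟩

theorem quadGen_le_normalizer_conj {l g : G} (hl : l ∈ mover S R C)
    (hg : quadGen S R C ≤ normalizer (cj g (wz S) : Set G)) :
    quadGen S R C ≤ normalizer (cj (l * g) (wz S) : Set G) := by
  rw [← cj_cj, ← H48.cj_normalizer l]
  exact (cj_eq_of_mem_normalizer hl.2).ge.trans (cj_mono hg)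

theorem quadGen_le_normalizer_one (hR : Base S R) :
    quadGen S R C ≤ normalizer (cj (1 : G) (wz S) : Set G) := by
  rw [cj_one]; exact quadGen_le.trans (hR.le.trans sylow_le_wn)

end Cfsg.Agent.H1.Glauberman
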